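import Cfsg.Agent.Lib.Char.ExtensionChar
import Cfsg.Agent.Lib.Small.SelfCentral
import Cfsg.Agent.Lib.Small.Embedding

/-!
Involutions in a nonabelian simple group have determinant one in every representation.
-/

set_option autoImplicit false
set_option linter.style.haveILetI false

namespace Cfsg.Agent.Order5040

open Module Cfsg.Agent.Char

/-- The trace of an involution and its determinant. -/
theorem four_dvd_of_det {V : Type*} [AddCommGroup V] [Module ℂ V] [FiniteDimensional ℂ V]
    (T : Module.End ℂ V) (hT : T * T = 1) (hdet : LinearMap.det T = 1) :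
    ∃ c : ℤ, LinearMap.trace ℂ V T = (c : ℂ) ∧ 4 ∣ (finrank ℂ V : ℤ) - c := by
  set p : Submodule ℂ V := LinearMap.ker (T - 1) with hp
  set q : Submodule ℂ V := LinearMap.ker (T + 1) with hq
  have hTT : ∀ x, T (T x) = x := fun x => LinearMap.congr_fun hT x
  have hmp : ∀ x, x ∈ p ↔ T x = x := fun x => by
    rw [hp, LinearMap.mem_ker, LinearMap.sub_apply, Module.End.one_apply, sub_eq_zero]
  have hmq : ∀ x, x ∈ q ↔ T x = -x := fun x => by
    rw [hq, LinearMap.mem_ker, LinearMap.add_apply, Module.End.one_apply, add_eq_zero_iff_eq_neg]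
  have hc : IsCompl p q := by
    constructor
    · rw [Submodule.disjoint_def]
      intro x hx hx'
      have h : x = -x := ((hmp x).1 hx).symm.trans ((hmq x).1 hx')
      have h2 : (2 : ℂ) • x = 0 := by rw [two_smul]; exact add_eq_zero_iff_eq_neg.2 h
      exact (smul_eq_zero.1 h2).resolve_left two_ne_zero
    · rw [codisjoint_iff, eq_top_iff]
      intro x _
      refine Submodule.mem_sup.2 ⟨(2⁻¹ : ℂ) • (x + T x), ?_, (2⁻¹ : ℂ) • (x - T x), ?_, ?_⟩
      · rw [hmp, map_smul, map_add, hTT, add_comm]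
      · rw [hmq, map_smul, map_sub, hTT, ← smul_neg, neg_sub]
      · rw [← smul_add, add_add_sub_cancel, ← two_smul ℂ x, smul_smul, inv_mul_cancel₀ two_ne_zero, one_smul]
  set e := Submodule.prodEquivOfIsCompl p q hc with he
  set D : Module.End ℂ (p × q) := LinearMap.prodMap LinearMap.id (-LinearMap.id) with hD
  have hconj : T = e.toLinearMap ∘ₗ D ∘ₗ e.symm.toLinearMap := by
    refine LinearMap.ext fun x => ?_
    obtain ⟨⟨a, b⟩, rfl⟩ := e.surjective x
    simp only [LinearMap.coe_comp, LinearEquiv.coe_coe, Function.comp_apply, LinearEquiv.symm_apply_apply]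
    show T ((a : V) + (b : V)) = ((a : p) : V) + ((-b : q) : V)
    rw [map_add, (hmp _).1 a.2, (hmq _).1 b.2]
    rfl
  have hD' : D = LinearMap.prodMap (LinearMap.id : p →ₗ[ℂ] p) ((-1 : ℂ) • LinearMap.id) := by
    rw [hD]; congr 1; exact (neg_one_smul ℂ _).symm
  have hdim : finrank ℂ p + finrank ℂ q = finrank ℂ V := Submodule.finrank_add_eq_of_isCompl hc
  refine ⟨(finrank ℂ p : ℤ) - finrank ℂ q, ?_, ?_⟩
  · rw [hconj, show e.toLinearMap ∘ₗ D ∘ₗ e.symm.toLinearMap = e.conj D from rfl,
      LinearMap.trace_conj', hD', LinearMap.trace_prodMap', LinearMap.trace_id, map_smul,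
      LinearMap.trace_id]
    push_cast
    simp only [smul_eq_mul]
    ring
  · have hd : (-1 : ℂ) ^ finrank ℂ q = 1 := by
      rw [hconj, LinearMap.det_conj, hD', LinearMap.det_prodMap, LinearMap.det_id,
        LinearMap.det_smul, LinearMap.det_id, one_mul, mul_one] at hdet
      exact hdet
    have hev : Even (finrank ℂ q) := by
      by_contra h
      rw [(Nat.not_even_iff_odd.1 h).neg_one_pow] at hd
      norm_num at hd
    obtain ⟨k, hk⟩ := hev
    exact ⟨k, by rw [← hdim, hk]; push_cast; ring⟩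

universe u

/-- The value of an irreducible character at an involution. -/
theorem value_invol {G : Type u} [Group G] [Finite G] [IsSimpleGroup G] (hG : ¬ IsMulCommutative G)
    [Fintype G] (χ : IrrCharacter G) {t : G} (ht : orderOf t = 2) :
    ∃ c : ℤ, (χ : G → ℂ) t = c ∧ c.natAbs ≤ Cfsg.charDegree (χ : G → ℂ) ∧
      4 ∣ (Cfsg.charDegree (χ : G → ℂ) : ℤ) - c := by
  obtain ⟨c, hc, hb⟩ := SelfCentral.involution_value χ ht
  refine ⟨c, hc, hb, ?_⟩
  obtain ⟨n, ρ, hρ, hχ⟩ := χ.2
  have hT : ρ t * ρ t = 1 := by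
    rw [← map_mul, ← sq, ← ht, pow_orderOf_eq_one, map_one]
  have hdet : LinearMap.det (ρ t) = 1 := by
    rw [← CharExtend.detHom_apply, Small.hom_comm_eq_one hG (CharExtend.detHom ρ) t, Units.val_one]
  obtain ⟨c', hc', hd⟩ := four_dvd_of_det (ρ t) hT hdet
  have hcc : c' = c := by
    rw [← hχ] at hc
    have : (c' : ℂ) = c := hc'.symm.trans hc
    exact_mod_cast this
  have hn : Cfsg.charDegree (χ : G → ℂ) = n := by
    have h5 := CharX.irr_deg χ
    rw [← hχ, Representation.char_one, Module.finrank_fin_fun] at h5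
    rw [← hχ]; exact_mod_cast h5.symm
  rw [Module.finrank_fin_fun, hcc] at hd
  rwa [hn]

end Cfsg.Agent.Order5040
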