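import Cfsg.Agent.Lib.Small.Order5040.Chars
import Cfsg.Agent.Lib.Small.OrderTools
import Cfsg.Agent.Lib.BrauerSuzuki.ZStar
import Cfsg.Agent.Lib.Transfer.Basic
import Cfsg.Agent.S1010

/-!
The local structure of a simple group of order `5040`, and its non-existence.
-/

set_option autoImplicit false
set_option linter.style.haveILetI false

namespace Cfsg.Agent.Order5040

universe u

variable {G : Type u} [Group G] [Finite G]

theorem zpowers_eq {p : ℕ} [hp : Fact p.Prime] {P : Subgroup G} (hP : Nat.card P = p) {v : G}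
    (hv : v ∈ P) (h1 : v ≠ 1) : Subgroup.zpowers v = P := by
  have hd : orderOf v ∣ p := hP ▸ Subgroup.orderOf_dvd_natCard P hv
  rcases (Nat.dvd_prime hp.out).1 hd with h | h
  · exact absurd (orderOf_eq_one_iff.1 h) h1
  · exact Subgroup.eq_of_le_of_card_ge (Subgroup.zpowers_le.2 hv) (by rw [Nat.card_zpowers, h, hP])

theorem centralizer_eq {p : ℕ} [Fact p.Prime] {P : Subgroup G} (hP : Nat.card P = p) {v : G}
    (hv : v ∈ P) (h1 : v ≠ 1) :
    Subgroup.centralizer ({v} : Set G) = Subgroup.centralizer (P : Set G) := by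
  rw [← zpowers_eq hP hv h1, Subgroup.zpowers_eq_closure, Subgroup.centralizer_closure]

/-- All nontrivial elements of a selfcentralizing `P` of order seven are conjugate when `|N(P)| = 42`. -/
theorem exists_normalizer_conj {P : Subgroup G} (hP : Nat.card P = 7)
    (hN : Nat.card (Subgroup.normalizer (P : Set G)) = 42)
    (hC : Nat.card (Subgroup.centralizer (P : Set G)) = 7) {y w : G} (hy : y ∈ P) (hy1 : y ≠ 1)
    (hw : w ∈ P) (hw1 : w ≠ 1) : IsConj y w := by
  classical
  haveI : Fact (Nat.Prime 7) := ⟨by norm_num⟩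
  set N := Subgroup.normalizer (P : Set G)
  letI := Fintype.ofFinite G
  letI := Fintype.ofFinite N
  set O : Finset G := Finset.univ.image fun x : N => (x : G) * y * (x : G)⁻¹ with hO
  have hsub : O ⊆ (Finset.univ.filter fun g : G => g ∈ P).erase 1 := by
    intro g hg
    obtain ⟨x, -, rfl⟩ := Finset.mem_image.1 hg
    simp only [Finset.mem_erase, Finset.mem_filter, Finset.mem_univ, true_and]
    exact ⟨fun e => hy1 (conj_eq_one_iff.1 e), (Subgroup.mem_normalizer_iff.1 x.2 y).1 hy⟩
  have hfib : ∀ g ∈ O, (Finset.univ.filter fun x : N => (x : G) * y * (x : G)⁻¹ = g).card ≤ 7 := by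
    intro g hg
    obtain ⟨x₀, -, rfl⟩ := Finset.mem_image.1 hg
    rw [← hC, ← Fintype.card_subtype, ← Nat.card_eq_fintype_card]
    refine Nat.card_le_card_of_injective (fun x => (⟨(x₀ : G)⁻¹ * (x.1 : G), ?_⟩ : Subgroup.centralizer (P : Set G)))
      fun a b hab => Subtype.ext (Subtype.ext (mul_left_cancel (congrArg Subtype.val hab :
        (x₀ : G)⁻¹ * (a.1 : G) = (x₀ : G)⁻¹ * (b.1 : G))))
    rw [← centralizer_eq hP hy hy1, Subgroup.mem_centralizer_singleton_iff]
    calc (x₀ : G)⁻¹ * (x.1 : G) * y = (x₀ : G)⁻¹ * ((x.1 : G) * y * (x.1 : G)⁻¹) * (x.1 : G) := by group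
      _ = (x₀ : G)⁻¹ * ((x₀ : G) * y * (x₀ : G)⁻¹) * (x.1 : G) := by rw [x.2]
      _ = _ := by group
  have h6 : 6 ≤ O.card := by
    have h := Finset.card_le_mul_card_image (Finset.univ : Finset N) 7 hfib
    rw [Finset.card_univ, ← Nat.card_eq_fintype_card, hN] at h
    rw [hO]; omega
  have hP6 : ((Finset.univ.filter fun g : G => g ∈ P).erase 1).card = 6 := by
    rw [Finset.card_erase_of_mem (by simp), ← Fintype.card_subtype, ← Nat.card_eq_fintype_card]
    rw [show Nat.card {g : G // g ∈ P} = 7 from hP]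
  have heq := Finset.eq_of_subset_of_card_le hsub (by omega)
  have hwO : w ∈ O := by rw [heq]; simp [hw, hw1]
  obtain ⟨x, -, hx⟩ := Finset.mem_image.1 hwO
  exact isConj_iff.2 ⟨x, hx⟩

/-- Common fixed cosets of `x` and `v` are fixed by `v`. -/
theorem common_le (H : Subgroup G) (x v : G) :
    Nat.card {q : G ⧸ H // x • q = q ∧ v • q = q} ≤ CommFix.fix H v :=
  Nat.card_le_card_of_injective
    (fun q => (⟨q.1, q.2.2⟩ : MulAction.fixedBy (G ⧸ H) v))
    fun a b h => Subtype.ext (congrArg (fun q : MulAction.fixedBy (G ⧸ H) v => q.1) h)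

theorem one_le_common {H : Subgroup G} {x v : G} (hx : x ∈ H) (hv : v ∈ H) :
    1 ≤ Nat.card {q : G ⧸ H // x • q = q ∧ v • q = q} := by
  haveI : Nonempty {q : G ⧸ H // x • q = q ∧ v • q = q} :=
    ⟨⟨((1 : G) : G ⧸ H), CommFix.one_mem_fix hx, CommFix.one_mem_fix hv⟩⟩
  exact Nat.card_pos

variable [IsSimpleGroup G]

section

variable (hn : Nat.card G = 5040)
include hn

theorem not_comm : ¬ IsMulCommutative G :=
  Small.not_comm_of_card (by rw [hn]; norm_num)

theorem not_prime : ¬ (Nat.card G).Prime := by rw [hn]; norm_num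

/-- No subgroup of index at most seven. -/
theorem seven_lt_index {H : Subgroup G} (hH : H ≠ ⊤) : 7 < H.index := by
  by_contra h
  have h1 := (Small.card_two_mul_dvd_factorial (not_comm hn) hH).trans
    (Nat.factorial_dvd_factorial (not_lt.1 h))
  rw [hn] at h1
  norm_num [Nat.factorial] at h1

/-- The number of Sylow seven-subgroups. -/
theorem card_sylow_seven [Fact (Nat.Prime 7)] : Nat.card (Sylow 7 G) = 120 := by
  haveI : Fact (Nat.Prime 5) := ⟨by norm_num⟩
  haveI : Fact (Nat.Prime 2) := ⟨Nat.prime_two⟩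
  have hG := not_comm hn
  have hnp := not_prime hn
  obtain ⟨P, hP, hmem, hidx, hN, hne⟩ := OrdersExcl.setup hG (p := 7) 720 hn (by norm_num) (by norm_num)
  rw [show ((Nat.divisors 720).filter (fun d => d % 7 = 1)).erase 1 = {8, 15, 36, 120} by decide +kernel] at hmem
  simp only [Finset.mem_insert, Finset.mem_singleton] at hmem
  set N := Subgroup.normalizer ((P : Subgroup G) : Set G) with hNdef
  set C := Subgroup.centralizer ((P : Subgroup G) : Set G) with hCdef
  rcases hmem with h | h | h | h
  · have h2 := OrderTools.two_mul_card_normalizer_dvd hG (by norm_num) P hP h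
    rw [h] at hN
    rw [← hNdef, show Nat.card N = 630 by omega] at h2
    norm_num at h2
  · exfalso
    rw [h] at hN hidx
    have hC := CommFix.card_centralizer_cases hnp P hP (n := 336) (by norm_num) (show Nat.card N = 336 by omega)
    have key : ∀ c ∈ (Nat.divisors 336).filter (fun c => 7 ∣ c ∧ c ≠ 336 ∧ 336 ∣ c * (7 - 1)), 2 ∣ c := by
      decide +kernel
    obtain ⟨z, hz⟩ := exists_prime_orderOf_dvd_card' 2 (G := C) (key _ hC)
    have hz' : orderOf (z : G) = 2 := by rw [Subgroup.orderOf_coe, hz]
    have hmod : CommFix.fix N (z : G) % 7 = 1 := CommFix.fix_mod P hP z.2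
    have hlt := CommFix.fix_lt hne (Invol.ne_one hz')
    have h4 := CommFix.four_dvd hG hne hz'
    rw [hidx] at hlt h4
    omega
  · exfalso
    rw [h] at hN hidx
    have hC := CommFix.card_centralizer_cases hnp P hP (n := 140) (by norm_num) (show Nat.card N = 140 by omega)
    rw [show (Nat.divisors 140).filter (fun c => 7 ∣ c ∧ c ≠ 140 ∧ 140 ∣ c * (7 - 1)) = {70} by
      decide +kernel, Finset.mem_singleton, ← hCdef] at hC
    obtain ⟨z, hz⟩ := exists_prime_orderOf_dvd_card' 2 (G := C) (by rw [hC]; norm_num)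
    have hz' : orderOf (z : G) = 2 := by rw [Subgroup.orderOf_coe, hz]
    have hmodz : CommFix.fix N (z : G) % 7 = 1 := CommFix.fix_mod P hP z.2
    have h4 := CommFix.four_dvd hG hne hz'
    have h22 := CommFix.modEq_prime Nat.prime_two N hz'
    have hltz := CommFix.fix_lt hne (Invol.ne_one hz')
    rw [hidx] at hltz h4 h22
    have hf : CommFix.fix N (z : G) = 8 := by omega
    have hbig : Nat.card (Sylow 7 G) + (7 - 1) <
        CommFix.fix (Subgroup.normalizer ((P : Subgroup G) : Set G)) (z : G) * 7 := by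
      rw [← hNdef, hf, h]; norm_num
    have heq := CommFix.fix_eq N (x := (z : G)) (Small.centralizer_le_normalizer _ z.2)
    rw [hf] at heq
    -- all involutions of `C` are conjugate in `C`, and there is an odd number of them
    have hclass : Nat.card {g : G // IsConj (z : G) g ∧ g ∈ N} = Nat.card {g : C // IsConj z g} := by
      symm
      refine Nat.card_eq_of_bijective
        (fun g => ⟨(g.1 : G), ?_, Small.centralizer_le_normalizer _ g.1.2⟩) ⟨?_, ?_⟩
      · obtain ⟨k, hk⟩ := isConj_iff.1 g.2
        exact isConj_iff.2 ⟨k, congrArg Subtype.val hk⟩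
      · exact fun a b hab => Subtype.ext (Subtype.ext
          (congrArg (fun q : {g : G // IsConj (z : G) g ∧ g ∈ N} => q.1) hab))
      rintro ⟨g, hg, hgN⟩
      have hgC := CommFix.mem_centralizer_of_fix P hP hg hgN hbig
      have hg2 : orderOf (⟨g, hgC⟩ : C) = 2 := by
        rw [Subgroup.orderOf_mk]
        obtain ⟨k, hk⟩ := isConj_iff.1 hg
        rw [← hk, Invol.order_conj, hz']
      obtain ⟨S, hS⟩ := (IsPGroup.of_card (p := 2) (n := 1)
        (by rw [Nat.card_zpowers, hz, pow_one]) : IsPGroup 2 (Subgroup.zpowers z)).exists_le_sylow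
      obtain ⟨T, hT⟩ := (IsPGroup.of_card (p := 2) (n := 1)
        (by rw [Nat.card_zpowers, hg2, pow_one]) : IsPGroup 2 (Subgroup.zpowers (⟨g, hgC⟩ : C))).exists_le_sylow
      obtain ⟨k, hk⟩ := MulAction.exists_smul_eq C S T
      have hS2 : ∀ R : Sylow 2 C, Nat.card (R : Subgroup C) = 2 := fun R => by
        rw [Small.sylow_card (k := 1) (m := 35) (by rw [hC]; norm_num) (by norm_num) R, pow_one]
      have hmem : k * z * k⁻¹ ∈ (T : Subgroup C) := by
        rw [← hk, Sylow.coe_subgroup_smul]
        exact Subgroup.smul_mem_pointwise_smul z (MulAut.conj k) _ (hS (Subgroup.mem_zpowers _))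
      have hgT := hT (Subgroup.mem_zpowers _)
      have hg1 : (⟨g, hgC⟩ : C) ≠ 1 := fun e => by rw [e, orderOf_one] at hg2; omega
      rw [← zpowers_eq (hS2 T) hgT hg1] at hmem
      have hkz : k * z * k⁻¹ = ⟨g, hgC⟩ := by
        obtain ⟨j, hj⟩ := mem_powers_iff_mem_zpowers.2 hmem
        have hj' : (⟨g, hgC⟩ : C) ^ j = k * z * k⁻¹ := hj
        rw [← pow_mod_orderOf, hg2] at hj'
        rcases Nat.mod_two_eq_zero_or_one j with e | e <;> rw [e] at hj'
        · rw [pow_zero, eq_comm, conj_eq_one_iff] at hj'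
          rw [hj', orderOf_one] at hz; omega
        · rw [pow_one] at hj'; exact hj'.symm
      exact ⟨⟨⟨g, hgC⟩, isConj_iff.2 ⟨k, hkz⟩⟩, rfl⟩
    rw [hclass] at heq
    have hcl := CommFix.card_class (G := C) z
    have h2z : 2 ∣ Nat.card (Subgroup.centralizer ({z} : Set C)) :=
      hz ▸ Subgroup.orderOf_dvd_natCard _ (Subgroup.mem_centralizer_singleton_iff.2 rfl)
    obtain ⟨q, hq⟩ := h2z
    rw [hq, hC] at hcl
    have hd : Nat.card {g : C // IsConj z g} ∣ 35 := by
      refine Dvd.intro q ?_
      have : 2 * (Nat.card {g : C // IsConj z g} * q) = 2 * 35 := by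
        rw [mul_comm (Nat.card {g : C // IsConj z g}) q, ← mul_assoc]
        first | exact hcl | (rw [mul_comm] at hcl; exact hcl)
      omega
    have hcz : Nat.card (Subgroup.centralizer ({(z : G)} : Set G)) ∣ 5040 :=
      hn ▸ Subgroup.card_subgroup_dvd_card _
    rw [show Nat.card N = 140 by omega] at heq
    have key : ∀ m < 36, m ∣ 35 → ∀ k, k * m = 8 * 140 → ¬ k ∣ 5040 := by
      intro m hm hmd k hk
      have : ∀ m < 36, m ∣ 35 → m = 1 ∨ m = 5 ∨ m = 7 ∨ m = 35 := by decide +kernel
      rcases this m hm hmd with rfl | rfl | rfl | rfl <;>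
        (rw [show k = 8 * 140 / _ from (Nat.div_eq_of_eq_mul_left (by norm_num) hk.symm).symm]; norm_num)
    exact key _ (Nat.lt_succ_of_le (Nat.le_of_dvd (by norm_num) hd)) hd _ heq hcz
  · exact h

/-- An involution and an element of order seven with a single common fixed coset exclude index fifteen. -/
theorem false_of_centralizer_index_fifteen {z v : G} (hz : orderOf z = 2) (hv : orderOf v = 7)
    (hc : Commute z v) (huniq : ∀ g : G, IsConj z g → Commute g v → g = z)
    (hi : (Subgroup.centralizer ({z} : Set G)).index = 15) : False := by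
  set H := Subgroup.centralizer ({z} : Set G) with hH
  have hne : H ≠ ⊤ := fun h => by rw [h, Subgroup.index_top] at hi; omega
  have hv1 : CommFix.fix H v ≤ 1 := by
    have : Nat.card (Unit) = 1 := Nat.card_unique
    rw [CommFix.fix, ← this]
    refine Nat.card_le_card_of_injective (fun _ => ()) fun a b _ => ?_
    have key : ∀ q : MulAction.fixedBy (G ⧸ H) v, q.1 = ((1 : G) : G ⧸ H) := by
      intro q
      obtain ⟨g, hg⟩ := QuotientGroup.mk_surjective q.1
      have hq : g⁻¹ * v * g ∈ H := by
        have h' := q.2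
        rw [← hg, MulAction.mem_fixedBy, MulAction.Quotient.smul_mk, eq_comm, QuotientGroup.eq,
          smul_eq_mul] at h'
        rwa [mul_assoc]
      rw [hH, Subgroup.mem_centralizer_singleton_iff] at hq
      have hcg : Commute (g * z * g⁻¹) v := by
        calc g * z * g⁻¹ * v = g * (z * (g⁻¹ * v * g)) * g⁻¹ := by group
          _ = g * ((g⁻¹ * v * g) * z) * g⁻¹ := by rw [hq]
          _ = v * (g * z * g⁻¹) := by group
      have he := huniq _ (isConj_iff.2 ⟨g, rfl⟩) hcg
      rw [← hg, QuotientGroup.eq, mul_one]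
      refine H.inv_mem ?_
      rw [hH, Subgroup.mem_centralizer_singleton_iff]
      exact mul_inv_eq_iff_eq_mul.1 he
    exact Subtype.ext ((key a).trans (key b).symm)
  have hzH : z ∈ H := Subgroup.mem_centralizer_singleton_iff.2 rfl
  have hvH : v ∈ H := Subgroup.mem_centralizer_singleton_iff.2 hc.symm.eq
  have h1 := CommFix.fix_common (by norm_num : Nat.Prime 7) H hv hc
  have h2 := common_le H z v
  have h3 := one_le_common hzH hvH
  have hn' : ¬ IsMulCommutative G := not_comm hn
  have h4 := CommFix.four_dvd hn' hne hz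
  have hlt := CommFix.fix_lt hne (Invol.ne_one hz)
  rw [hi] at h4 hlt
  omega

/-- The Sylow seven-subgroups are selfcentralizing. -/
theorem card_centralizer_seven [Fact (Nat.Prime 7)] (P : Sylow 7 G) :
    Nat.card (Subgroup.centralizer ((P : Subgroup G) : Set G)) = 7 ∧
      Nat.card (Subgroup.normalizer ((P : Subgroup G) : Set G)) = 42 := by
  haveI : Fact (Nat.Prime 5) := ⟨by norm_num⟩
  haveI : Fact (Nat.Prime 3) := ⟨Nat.prime_three⟩
  haveI : Fact (Nat.Prime 2) := ⟨Nat.prime_two⟩
  have hG := not_comm hn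
  have hnp := not_prime hn
  have h120 := card_sylow_seven hn
  have hP : Nat.card (P : Subgroup G) = 7 := by
    rw [Small.sylow_card (k := 1) (m := 720) (by rw [hn]; norm_num) (by norm_num) P, pow_one]
  have hne := Small.normalizer_ne_top hG (by rw [hn]; norm_num : 7 ∣ Nat.card G) P
  have hidx := (Small.card_eq_index P).symm.trans h120
  set N := Subgroup.normalizer ((P : Subgroup G) : Set G) with hNdef
  set C := Subgroup.centralizer ((P : Subgroup G) : Set G) with hCdef
  have hN : Nat.card N = 42 := by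
    have := N.card_mul_index
    rw [hidx, hn] at this
    omega
  refine ⟨?_, hN⟩
  have hC := CommFix.card_centralizer_cases hnp P hP (n := 42) (by norm_num) hN
  rw [show (Nat.divisors 42).filter (fun c => 7 ∣ c ∧ c ≠ 42 ∧ 42 ∣ c * (7 - 1)) = {7, 14, 21} by
    decide +kernel, ← hCdef] at hC
  simp only [Finset.mem_insert, Finset.mem_singleton] at hC
  obtain ⟨v', hv⟩ := exists_prime_orderOf_dvd_card' 7 (G := (P : Subgroup G)) (by rw [hP])
  set v : G := (v' : G) with hvdef
  have hv' : orderOf v = 7 := by rw [hvdef, Subgroup.orderOf_coe, hv]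
  have hv1 : v ≠ 1 := fun e => by rw [e, orderOf_one] at hv'; omega
  have hCv : Subgroup.centralizer ({v} : Set G) = C := centralizer_eq hP v'.2 hv1
  rcases hC with hC | hC | hC
  · exact hC
  · exfalso
    obtain ⟨z', hz⟩ := exists_prime_orderOf_dvd_card' 2 (G := C) (by rw [hC]; norm_num)
    set z : G := (z' : G) with hzdef
    have hz' : orderOf z = 2 := by rw [hzdef, Subgroup.orderOf_coe, hz]
    have hcomm : Commute z v := (Subgroup.mem_centralizer_iff.1 z'.2 _ v'.2).symm
    -- the Sylow two-subgroup of `C` is unique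
    have hn2 : Nat.card (Sylow 2 C) = 1 := by
      obtain ⟨Y⟩ : Nonempty (Sylow 2 C) := inferInstance
      have hle : (P : Subgroup G).subgroupOf C ≤ Subgroup.normalizer ((Y : Subgroup C) : Set C) :=
        le_trans (fun x hx => Subgroup.mem_centralizer_iff.2 fun a _ =>
          Subtype.ext (Subgroup.mem_centralizer_iff.1 a.2 _ hx).symm)
          (Small.centralizer_le_normalizer _)
      have h7 := Subgroup.card_dvd_of_le hle
      rw [Nat.card_congr (Subgroup.subgroupOfEquivOfLe (Small.le_centralizer_self _ hP)).toEquiv, hP] at h7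
      have hmul := Small.card_normalizer_mul Y
      rw [hC] at hmul
      obtain ⟨j, hj⟩ := h7
      have hmem := Small.sylow_number_mem (G := C) (p := 2) (k := 1) (m := 7) (by rw [hC]; norm_num)
        (by norm_num)
      rw [show (7 : ℕ).divisors.filter (fun d => d % 2 = 1) = {1, 7} by decide +kernel,
        Finset.mem_insert, Finset.mem_singleton] at hmem
      refine hmem.resolve_right fun e => ?_
      rw [e, hj] at hmul
      omega
    haveI : Subsingleton (Sylow 2 C) := (Nat.card_eq_one_iff_unique.1 hn2).1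
    obtain ⟨Y, hY⟩ := (IsPGroup.of_card (p := 2) (n := 1)
      (by rw [Nat.card_zpowers, hz, pow_one]) : IsPGroup 2 (Subgroup.zpowers z')).exists_le_sylow
    have hY2 : Nat.card (Y : Subgroup C) = 2 := by
      rw [Small.sylow_card (k := 1) (m := 7) (by rw [hC]; norm_num) (by norm_num) Y, pow_one]
    have huniqC : ∀ g ∈ C, orderOf g = 2 → g = z := by
      intro g hg hg2
      have hg' : orderOf (⟨g, hg⟩ : C) = 2 := by rw [Subgroup.orderOf_mk, hg2]
      obtain ⟨T, hT⟩ := (IsPGroup.of_card (p := 2) (n := 1)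
        (by rw [Nat.card_zpowers, hg', pow_one]) : IsPGroup 2 (Subgroup.zpowers (⟨g, hg⟩ : C))).exists_le_sylow
      rw [Subsingleton.elim T Y] at hT
      have hzp := zpowers_eq hY2 (hY (Subgroup.mem_zpowers z')) (fun e => by rw [e, orderOf_one] at hz; omega)
      have hm := hT (Subgroup.mem_zpowers _)
      rw [← hzp] at hm
      obtain ⟨j, hj⟩ := mem_powers_iff_mem_zpowers.2 hm
      have hj' : z' ^ j = (⟨g, hg⟩ : C) := hj
      rw [← pow_mod_orderOf, hz] at hj'
      rcases Nat.mod_two_eq_zero_or_one j with e | e <;> rw [e] at hj'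
      · rw [pow_zero] at hj'
        rw [← hj', orderOf_one] at hg'; omega
      · rw [pow_one] at hj'; exact (congrArg Subtype.val hj').symm
    -- involutions of `N` lie in `C`
    have hinv : ∀ g ∈ N, orderOf g = 2 → g ∈ C := by
      intro g hg hg2
      have hCn : (C.subgroupOf N).Normal := by
        refine ⟨fun a ha b => ?_⟩
        rw [Subgroup.mem_subgroupOf, hCdef] at ha ⊢
        refine Subgroup.mem_centralizer_iff.2 fun w hw => ?_
        have hw' : (b : G)⁻¹ * w * (b : G) ∈ (P : Subgroup G) := by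
          have := (Subgroup.mem_normalizer_iff.1 (N.inv_mem b.2) w).1 hw
          simpa using this
        have := Subgroup.mem_centralizer_iff.1 ha _ hw'
        show w * ((b : G) * (a : G) * (b : G)⁻¹) = (b : G) * (a : G) * (b : G)⁻¹ * w
        calc w * ((b : G) * (a : G) * (b : G)⁻¹)
            = (b : G) * (((b : G)⁻¹ * w * (b : G)) * (a : G)) * (b : G)⁻¹ := by group
          _ = (b : G) * ((a : G) * ((b : G)⁻¹ * w * (b : G))) * (b : G)⁻¹ := by rw [this]
          _ = (b : G) * (a : G) * (b : G)⁻¹ * w := by group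
      have hi : (C.subgroupOf N).index = 3 := by
        have := (C.subgroupOf N).card_mul_index
        rw [Nat.card_congr (Subgroup.subgroupOfEquivOfLe (Small.centralizer_le_normalizer _)).toEquiv,
          hC, hN] at this
        omega
      have h1 : orderOf (QuotientGroup.mk' (C.subgroupOf N) ⟨g, hg⟩) ∣ 2 := by
        refine (orderOf_map_dvd _ _).trans ?_
        rw [Subgroup.orderOf_mk, hg2]
      have h2 : orderOf (QuotientGroup.mk' (C.subgroupOf N) ⟨g, hg⟩) ∣ 3 := hi ▸ orderOf_dvd_natCard _
      have h3 : QuotientGroup.mk' (C.subgroupOf N) ⟨g, hg⟩ = 1 :=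
        orderOf_eq_one_iff.1 (Nat.dvd_one.1 ((Nat.dvd_gcd h1 h2).trans (by norm_num)))
      rw [QuotientGroup.mk'_apply, QuotientGroup.eq_one_iff, Subgroup.mem_subgroupOf] at h3
      exact h3
    have hzN : z ∈ N := Small.centralizer_le_normalizer _ z'.2
    have hm : Nat.card {g : G // IsConj z g ∧ g ∈ N} = 1 := by
      refine Nat.card_eq_one_iff_unique.2 ⟨⟨fun a b => Subtype.ext ?_⟩, ⟨⟨z, IsConj.refl z, hzN⟩⟩⟩
      have key : ∀ g : G, IsConj z g → g ∈ N → g = z := by
        intro g hg hgN
        obtain ⟨k, hk⟩ := isConj_iff.1 hg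
        have h2 : orderOf g = 2 := by rw [← hk, Invol.order_conj, hz']
        exact huniqC g (hinv g hgN h2) h2
      exact (key a a.2.1 a.2.2).trans (key b b.2.1 b.2.2).symm
    have heq := CommFix.fix_eq N (x := z) hzN
    rw [hm, mul_one, hN] at heq
    have hmod : CommFix.fix N z % 7 = 1 := CommFix.fix_mod P hP z'.2
    have h4 := CommFix.four_dvd hG hne hz'
    have hlt := CommFix.fix_lt hne (Invol.ne_one hz')
    rw [hidx] at h4 hlt
    have hd : Nat.card (Subgroup.centralizer ({z} : Set G)) ∣ 5040 := hn ▸ Subgroup.card_subgroup_dvd_card _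
    rw [heq] at hd
    have key : ∀ f < 120, f % 7 = 1 → 4 ∣ 120 - f → f * 42 ∣ 5040 → f = 8 := by decide +kernel
    have hf := key _ hlt hmod h4 hd
    rw [hf] at heq
    refine false_of_centralizer_index_fifteen hn hz' hv' hcomm (fun g hg hgv => ?_) ?_
    · obtain ⟨k, hk⟩ := isConj_iff.1 hg
      have h2 : orderOf g = 2 := by rw [← hk, Invol.order_conj, hz']
      exact huniqC g (by rw [← hCv]; exact Subgroup.mem_centralizer_singleton_iff.2 hgv.eq) h2
    · have := (Subgroup.centralizer ({z} : Set G)).card_mul_index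
      rw [heq, hn] at this
      omega
  · exfalso
    obtain ⟨y', hy⟩ := exists_prime_orderOf_dvd_card' 3 (G := C) (by rw [hC]; norm_num)
    set y : G := (y' : G) with hydef
    have hy' : orderOf y = 3 := by rw [hydef, Subgroup.orderOf_coe, hy]
    have hcomm : Commute y v := (Subgroup.mem_centralizer_iff.1 y'.2 _ v'.2).symm
    set H := Subgroup.centralizer ({y} : Set G) with hH
    have hPH : (P : Subgroup G) ≤ H := fun w hw =>
      Subgroup.mem_centralizer_singleton_iff.2 (Subgroup.mem_centralizer_iff.1 y'.2 w hw)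
    obtain ⟨Q, hyQ⟩ := (IsPGroup.of_card (p := 3) (n := 1)
      (by rw [Nat.card_zpowers, hy', pow_one]) : IsPGroup 3 (Subgroup.zpowers y)).exists_le_sylow
    have hQ : Nat.card (Q : Subgroup G) = 9 := by
      rw [Small.sylow_card (k := 2) (m := 560) (by rw [hn]; norm_num) (by norm_num) Q]; norm_num
    have hQH : (Q : Subgroup G) ≤ H := fun w hw => by
      haveI := IsPGroup.isMulCommutative_of_card_eq_prime_sq (p := 3) (G := (Q : Subgroup G))
        (by rw [hQ]; norm_num)
      exact Subgroup.mem_centralizer_singleton_iff.2 (congrArg Subtype.val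
        (mul_comm' (⟨w, hw⟩ : (Q : Subgroup G)) ⟨y, hyQ (Subgroup.mem_zpowers y)⟩))
    have hHne : H ≠ ⊤ := by
      intro e
      have : y ∈ Subgroup.center G := Subgroup.mem_center_iff.2 fun g =>
        Subgroup.mem_centralizer_singleton_iff.1 (show g ∈ H by rw [e]; exact Subgroup.mem_top g)
      rcases (inferInstance : (Subgroup.center G).Normal).eq_bot_or_eq_top with e' | e'
      · rw [e', Subgroup.mem_bot] at this
        rw [this, orderOf_one] at hy'; omega
      · exact hG ⟨⟨fun a b => Subgroup.mem_center_iff.1 (e' ▸ Subgroup.mem_top b) a⟩⟩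
    have h63 : 63 ∣ Nat.card H := by
      refine (show 63 = 7 * 9 by norm_num) ▸ Nat.Coprime.mul_dvd_of_dvd_of_dvd (by norm_num) ?_ ?_
      · exact hP ▸ Subgroup.card_dvd_of_le hPH
      · exact hQ ▸ Subgroup.card_dvd_of_le hQH
    have hHd : Nat.card H ∣ 5040 := hn ▸ H.card_subgroup_dvd_card
    have hHi := H.card_mul_index
    rw [hn] at hHi
    have h7i := seven_lt_index hn hHne
    have hcases : Nat.card H ∈ [63, 126, 252, 315, 504, 630] := by
      have hl : Nat.card H < 720 := by
        by_contra hl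
        have := Nat.mul_le_mul (not_lt.1 hl) (show 8 ≤ H.index by omega)
        omega
      have key : ∀ a < 720, 63 ∣ a → a ∣ 5040 → a ∈ [63, 126, 252, 315, 504, 630] := by decide +kernel
      exact key _ hl h63 hHd
    -- Sylow seven-subgroups of `H`
    have hNH : Subgroup.normalizer (((P.subtype hPH : Sylow 7 H) : Subgroup H) : Set H) =
        N.subgroupOf H := by
      rw [Sylow.coe_subtype, ← Subgroup.subgroupOf_normalizer_eq hPH]
    have hmulH := Small.card_normalizer_mul (P.subtype hPH : Sylow 7 H)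
    rw [hNH] at hmulH
    have hmodH := (card_sylow_modEq_one 7 H : Nat.card (Sylow 7 H) % 7 = 1 % 7)
    have hd42 : Nat.card (N.subgroupOf H) ∣ 42 := by
      rw [← hN]
      exact (Subgroup.card_dvd_of_injective (H := N)
        (MonoidHom.codRestrict ((H.subtype).comp (N.subgroupOf H).subtype) N fun x => x.2)
        (fun a b hab => Subtype.ext (Subtype.ext (congrArg (fun t : N => (t : G)) hab))))
    have h7NH : 7 ∣ Nat.card (N.subgroupOf H) := by
      have hle : (P : Subgroup G).subgroupOf H ≤ N.subgroupOf H := fun x hx => P.le_normalizer hx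
      have := Subgroup.card_dvd_of_le hle
      rwa [Nat.card_congr (Subgroup.subgroupOfEquivOfLe hPH).toEquiv, hP] at this
    have h3NH : 3 ∣ Nat.card (N.subgroupOf H) := by
      have hyH : y ∈ H := Subgroup.mem_centralizer_singleton_iff.2 rfl
      have hyN : (⟨y, hyH⟩ : H) ∈ N.subgroupOf H := Small.centralizer_le_normalizer _ y'.2
      have := Subgroup.orderOf_dvd_natCard _ hyN
      rwa [Subgroup.orderOf_mk, hy'] at this
    have key : ∀ a ∈ [63, 126, 252, 315, 504, 630], ∀ b ∈ Nat.divisors 42, 3 ∣ b → 7 ∣ b → b ∣ a →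
        a / b % 7 = 1 → (a = 315 ∧ b = 21) ∨ a = 630 := by decide +kernel
    have hb : Nat.card (N.subgroupOf H) ∈ Nat.divisors 42 := Nat.mem_divisors.2 ⟨hd42, by norm_num⟩
    have hdiv : Nat.card H / Nat.card (N.subgroupOf H) = Nat.card (Sylow 7 H) :=
      Nat.div_eq_of_eq_mul_right Nat.card_pos hmulH.symm
    rcases key _ hcases _ hb h3NH h7NH ⟨_, hmulH.symm⟩ (by rw [hdiv]; exact hmodH) with ⟨h315, -⟩ | h630
    · -- a Sylow five-subgroup of `H` would be normal
      have hmem := Small.sylow_number_mem (G := H) (p := 5) (k := 1) (m := 63) (by rw [h315]; norm_num)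
        (by norm_num)
      rw [show (63 : ℕ).divisors.filter (fun d => d % 5 = 1) = {1, 21} by decide +kernel,
        Finset.mem_insert, Finset.mem_singleton] at hmem
      have h1 := hmem.resolve_right S1010.result
      haveI : Subsingleton (Sylow 5 H) := (Nat.card_eq_one_iff_unique.1 h1).1
      obtain ⟨Y⟩ : Nonempty (Sylow 5 H) := inferInstance
      haveI := Y.normal_of_subsingleton
      have hY : Nat.card (Y : Subgroup H) = 5 := by
        rw [Small.sylow_card (k := 1) (m := 63) (by rw [h315]; norm_num) (by norm_num) Y, pow_one]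
      have hd := Small.card_normalizer_dvd (Y : Subgroup H) hY
      rw [Subgroup.normalizer_eq_top_iff.2 inferInstance, Subgroup.card_top, h315] at hd
      have hd315 : 315 ∣ Nat.card (Subgroup.centralizer ((Y : Subgroup H) : Set H)) :=
        Nat.Coprime.dvd_of_dvd_mul_right (by norm_num) hd
      have htop : Subgroup.centralizer ((Y : Subgroup H) : Set H) = ⊤ :=
        Subgroup.eq_top_of_card_eq _ (Nat.dvd_antisymm (Subgroup.card_subgroup_dvd_card _) (h315 ▸ hd315))
      obtain ⟨u, hu⟩ := exists_prime_orderOf_dvd_card' 5 (G := (Y : Subgroup H)) (by rw [hY])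
      have hvH : v ∈ H := hPH v'.2
      have hmemv : (⟨v, hvH⟩ : H) ∈ Subgroup.centralizer ((Y : Subgroup H) : Set H) := by
        rw [htop]; exact Subgroup.mem_top _
      have huv : Commute ((u : H) : G) v :=
        congrArg (fun t : H => (t : G)) (Subgroup.mem_centralizer_iff.1 hmemv _ u.2)
      have huC : ((u : H) : G) ∈ C := by
        rw [← hCv]; exact Subgroup.mem_centralizer_singleton_iff.2 huv.eq
      have := Subgroup.orderOf_dvd_natCard C huC
      rw [Subgroup.orderOf_coe, Subgroup.orderOf_coe, hu, hC] at this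
      norm_num at this
    · -- index eight
      rw [h630] at hHi
      have hi : H.index = 8 := by omega
      have hvH : v ∈ H := hPH v'.2
      have hyH : y ∈ H := Subgroup.mem_centralizer_singleton_iff.2 rfl
      have h1 := CommFix.modEq_prime (by norm_num : Nat.Prime 7) H hv'
      have h2 := CommFix.modEq_prime Nat.prime_three H hy'
      have h3 := CommFix.fix_common (by norm_num : Nat.Prime 7) H hv' hcomm
      have h4 := common_le H y v
      have h5 := one_le_common hyH hvH
      have hlt := CommFix.fix_lt hHne hv1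
      have hlt' := CommFix.fix_lt hHne (x := y) fun e => by rw [e, orderOf_one] at hy'; omega
      rw [hi] at h1 h2 hlt hlt'
      omega

omit [IsSimpleGroup G] hn in
theorem conj_mem_centralizer {N : Subgroup G} {a b : G} (ha : a ∈ Subgroup.centralizer (N : Set G))
    (hb : b ∈ Subgroup.normalizer (N : Set G)) : b * a * b⁻¹ ∈ Subgroup.centralizer (N : Set G) := by
  refine Subgroup.mem_centralizer_iff.2 fun w hw => ?_
  have hw' : b⁻¹ * w * b ∈ N := by
    have := (Subgroup.mem_normalizer_iff.1 ((Subgroup.normalizer (N : Set G)).inv_mem hb) w).1 hw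
    simpa using this
  have := Subgroup.mem_centralizer_iff.1 ha _ hw'
  calc w * (b * a * b⁻¹) = b * ((b⁻¹ * w * b) * a) * b⁻¹ := by group
    _ = b * (a * (b⁻¹ * w * b)) * b⁻¹ := by rw [this]
    _ = b * a * b⁻¹ * w := by group

/-- The number of Sylow five-subgroups. -/
theorem card_sylow_five [Fact (Nat.Prime 5)] : Nat.card (Sylow 5 G) = 126 := by
  haveI : Fact (Nat.Prime 7) := ⟨by norm_num⟩
  haveI : Fact (Nat.Prime 3) := ⟨Nat.prime_three⟩
  have hG := not_comm hn
  have hnp := not_prime hn
  obtain ⟨P, hP, hmem, hidx, hN, hne⟩ := OrdersExcl.setup hG (p := 5) 1008 hn (by norm_num) (by norm_num)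
  have hsub : ((Nat.divisors 1008).filter (fun d => d % 5 = 1)).erase 1 ⊆ {6, 16, 21, 36, 56, 126, 336} := by
    decide +kernel
  have hmem' := hsub hmem
  simp only [Finset.mem_insert, Finset.mem_singleton] at hmem'
  set N := Subgroup.normalizer ((P : Subgroup G) : Set G) with hNdef
  set C := Subgroup.centralizer ((P : Subgroup G) : Set G) with hCdef
  have hseven : (h : Nat.card (Sylow 5 G) = 16 ∨ Nat.card (Sylow 5 G) = 36) → False := by
    intro h
    have h7N : 7 ∣ Nat.card N := by rcases h with h | h <;> (rw [h] at hN; omega)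
    have hd := h7N.trans (Small.card_normalizer_dvd (P : Subgroup G) hP)
    obtain ⟨x, hx⟩ := exists_prime_orderOf_dvd_card' 7 (G := C) (Nat.Coprime.dvd_of_dvd_mul_right (by norm_num) hd)
    obtain ⟨R, hR⟩ := (IsPGroup.of_card (p := 7) (n := 1)
      (by rw [Nat.card_zpowers, Subgroup.orderOf_coe, hx, pow_one]) :
        IsPGroup 7 (Subgroup.zpowers (x : G))).exists_le_sylow
    have hRc : Nat.card (R : Subgroup G) = 7 := by
      rw [Small.sylow_card (k := 1) (m := 720) (by rw [hn]; norm_num) (by norm_num) R, pow_one]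
    obtain ⟨u, hu⟩ := exists_prime_orderOf_dvd_card' 5 (G := (P : Subgroup G)) (by rw [hP])
    have hxR := hR (Subgroup.mem_zpowers (x : G))
    have hx1 : (x : G) ≠ 1 := fun e => by
      have : orderOf (x : G) = 7 := by rw [Subgroup.orderOf_coe, hx]
      rw [e, orderOf_one] at this; omega
    have huR : (u : G) ∈ Subgroup.centralizer ((R : Subgroup G) : Set G) := by
      rw [← centralizer_eq hRc hxR hx1]
      exact Subgroup.mem_centralizer_singleton_iff.2 (Subgroup.mem_centralizer_iff.1 x.2 _ u.2)
    have := Subgroup.orderOf_dvd_natCard _ huR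
    rw [Subgroup.orderOf_coe, hu, (card_centralizer_seven hn R).1] at this
    norm_num at this
  rcases hmem' with h | h | h | h | h | h | h
  · exfalso
    have := Small.factorial_bound (p := 5) hG (by rw [hn]; norm_num)
    rw [h, hn] at this
    norm_num [Nat.factorial] at this
  · exact (hseven (Or.inl h)).elim
  · exact absurd h S1010.result
  · exact (hseven (Or.inr h)).elim
  · exfalso
    rw [h] at hN hidx
    have hC := CommFix.card_centralizer_cases hnp P hP (n := 90) (by norm_num) (show Nat.card N = 90 by omega)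
    rw [show (Nat.divisors 90).filter (fun c => 5 ∣ c ∧ c ≠ 90 ∧ 90 ∣ c * (5 - 1)) = {45} by
      decide +kernel, Finset.mem_singleton, ← hCdef] at hC
    have h3 := Small.sylow_number_mem (G := C) (p := 3) (k := 2) (m := 5) (by rw [hC]; norm_num) (by norm_num)
    rw [show (5 : ℕ).divisors.filter (fun d => d % 3 = 1) = {1} by decide +kernel, Finset.mem_singleton] at h3
    haveI : Subsingleton (Sylow 3 C) := (Nat.card_eq_one_iff_unique.1 h3).1
    obtain ⟨Y⟩ : Nonempty (Sylow 3 C) := inferInstance
    set Q := (Y : Subgroup C).map C.subtype with hQdef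
    have hQ : Nat.card Q = 9 := by
      rw [hQdef, Subgroup.card_map_of_injective C.subtype_injective,
        Small.sylow_card (k := 2) (m := 5) (by rw [hC]; norm_num) (by norm_num) Y]
      norm_num
    set M := Subgroup.normalizer (Q : Set G) with hM
    have hNM : N ≤ M := by
      have hin : ∀ b ∈ N, ∀ x ∈ Q, b * x * b⁻¹ ∈ Q := by
        intro b hb x hx
        obtain ⟨x', hx', rfl⟩ := hx
        set w : C := ⟨b * (x' : G) * b⁻¹, conj_mem_centralizer x'.2 hb⟩ with hw
        obtain ⟨i, hi⟩ := Y.isPGroup' ⟨x', hx'⟩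
        have hwp : IsPGroup 3 (Subgroup.zpowers w) := by
          obtain ⟨e, -, he⟩ := (Nat.dvd_prime_pow Nat.prime_three).1
            (orderOf_dvd_of_pow_eq_one (x := w) (n := 3 ^ i) (Subtype.ext (by
              show (b * (x' : G) * b⁻¹) ^ 3 ^ i = 1
              rw [conj_pow, show (x' : G) ^ 3 ^ i = 1 from
                congrArg (fun t : (Y : Subgroup C) => ((t : C) : G)) hi, mul_one, mul_inv_cancel])))
          exact IsPGroup.of_card (n := e) (by rw [Nat.card_zpowers, he])
        obtain ⟨Y2, hY2⟩ := hwp.exists_le_sylow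
        rw [Subsingleton.elim Y2 Y] at hY2
        exact ⟨w, hY2 (Subgroup.mem_zpowers w), rfl⟩
      intro g hg
      refine Subgroup.mem_normalizer_iff.2 fun x => ⟨hin g hg x, fun hx => ?_⟩
      have := hin g⁻¹ (N.inv_mem hg) _ hx
      simpa [mul_assoc] using this
    have hMne : M ≠ ⊤ := by
      intro e
      rcases (Subgroup.normalizer_eq_top_iff.1 e).eq_bot_or_eq_top with e' | e'
      · rw [e', Subgroup.card_bot] at hQ; omega
      · rw [e', Subgroup.card_top, hn] at hQ; omega
    have hrel := Subgroup.relIndex_mul_index hNM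
    rw [hidx] at hrel
    have hPM : (P : Subgroup G) ≤ M := P.le_normalizer.trans hNM
    have hN5 : Subgroup.normalizer (((P.subtype hPM : Sylow 5 M) : Subgroup M) : Set M) = N.subgroupOf M := by
      rw [Sylow.coe_subtype, ← Subgroup.subgroupOf_normalizer_eq hPM]
    have hn5 := Small.card_eq_index (P.subtype hPM : Sylow 5 M)
    rw [hN5] at hn5
    change Nat.card (Sylow 5 M) = N.relIndex M at hn5
    have hmodM := (card_sylow_modEq_one 5 M : Nat.card (Sylow 5 M) % 5 = 1 % 5)
    rw [hn5] at hmodM
    -- the index of `M` is also the number of Sylow three-subgroups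
    obtain ⟨S, hS⟩ := (IsPGroup.of_card (p := 3) (n := 2) (by rw [hQ]; norm_num) : IsPGroup 3 Q).exists_le_sylow
    have hSc : Nat.card (S : Subgroup G) = 9 := by
      rw [Small.sylow_card (k := 2) (m := 560) (by rw [hn]; norm_num) (by norm_num) S]; norm_num
    have hSQ : Q = (S : Subgroup G) := Subgroup.eq_of_le_of_card_ge hS (by rw [hQ, hSc])
    have hmod3 := (card_sylow_modEq_one 3 G : Nat.card (Sylow 3 G) % 3 = 1 % 3)
    rw [Small.card_eq_index S, ← hSQ, ← hM] at hmod3
    have hd56 : M.index ∣ 56 := ⟨N.relIndex M, by rw [mul_comm]; exact hrel.symm⟩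
    have h7 := seven_lt_index hn hMne
    have key : ∀ a < 57, a ∣ 56 → 7 < a → a % 3 = 1 → 56 / a % 5 = 1 → False := by decide +kernel
    refine key _ (by have := Nat.le_of_dvd (by norm_num) hd56; omega) hd56 h7 hmod3 ?_
    rw [Nat.div_eq_of_eq_mul_left (by omega) hrel.symm]
    exact hmodM
  · exact h
  · exfalso
    rw [h] at hN
    have hC := CommFix.card_centralizer_cases hnp P hP (n := 15) (by norm_num) (show Nat.card N = 15 by omega)
    rw [show (Nat.divisors 15).filter (fun c => 5 ∣ c ∧ c ≠ 15 ∧ 15 ∣ c * (5 - 1)) = ∅ by decide +kernel] at hC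
    simp at hC

/-- No involution with centralizer of order divisible by five normalises a Sylow seven-subgroup. -/
theorem no_invol_normalizes [Fact (Nat.Prime 7)] (R : Sylow 7 G) {a : G} (ha : orderOf a = 2)
    (h5 : 5 ∣ Nat.card (Subgroup.centralizer ({a} : Set G)))
    (hm : a ∈ Subgroup.normalizer ((R : Subgroup G) : Set G)) : False := by
  haveI : Fact (Nat.Prime 5) := ⟨by norm_num⟩
  obtain ⟨hC, hN⟩ := card_centralizer_seven hn R
  have hP : Nat.card (R : Subgroup G) = 7 := by
    rw [Small.sylow_card (k := 1) (m := 720) (by rw [hn]; norm_num) (by norm_num) R, pow_one]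
  have haC : a ∉ Subgroup.centralizer ((R : Subgroup G) : Set G) := fun h => by
    have := Subgroup.orderOf_dvd_natCard _ h
    rw [ha, hC] at this
    norm_num at this
  obtain ⟨hf1, hf2⟩ := Small.fixed_le R hP hm haC
  rw [card_sylow_seven hn] at hf2
  change 1 ≤ CommFix.fix _ a at hf1
  change CommFix.fix (Subgroup.normalizer ((R : Subgroup G) : Set G)) a * 7 ≤ 120 + (7 - 1) at hf2
  have heq := CommFix.fix_eq (Subgroup.normalizer ((R : Subgroup G) : Set G)) hm
  rw [hN] at heq
  have h5f : 5 ∣ CommFix.fix (Subgroup.normalizer ((R : Subgroup G) : Set G)) a * 42 :=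
    heq ▸ dvd_mul_of_dvd_left h5 _
  have hne := Small.normalizer_ne_top (not_comm hn) (by rw [hn]; norm_num : 7 ∣ Nat.card G) R
  have h4 := CommFix.four_dvd (not_comm hn) hne ha
  rw [← Small.card_eq_index R, card_sylow_seven hn] at h4
  omega

/-- An involution centralizing a Sylow five-normalizer. -/
theorem exists_invol [Fact (Nat.Prime 5)] (P : Sylow 5 G) :
    ∃ w : G, orderOf w = 2 ∧
      Subgroup.normalizer ((P : Subgroup G) : Set G) ≤ Subgroup.centralizer ({w} : Set G) := by
  classical
  haveI : Fact (Nat.Prime 2) := ⟨Nat.prime_two⟩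
  have hnp := not_prime hn
  have hP : Nat.card (P : Subgroup G) = 5 := by
    rw [Small.sylow_card (k := 1) (m := 1008) (by rw [hn]; norm_num) (by norm_num) P, pow_one]
  set N := Subgroup.normalizer ((P : Subgroup G) : Set G) with hNdef
  set C := Subgroup.centralizer ((P : Subgroup G) : Set G) with hCdef
  have hN : Nat.card N = 40 := by
    have := Small.card_normalizer_mul P
    rw [card_sylow_five hn, hn, ← hNdef] at this
    omega
  have hC := CommFix.card_centralizer_cases hnp P hP (n := 40) (by norm_num) hN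
  have keyC : ∀ c ∈ (Nat.divisors 40).filter (fun c => 5 ∣ c ∧ c ≠ 40 ∧ 40 ∣ c * (5 - 1)), 2 ∣ c := by
    decide +kernel
  have h2C : 2 ∣ Nat.card C := keyC _ hC
  obtain ⟨U⟩ : Nonempty (Sylow 2 N) := inferInstance
  set U' := (U : Subgroup N).map N.subtype with hU'
  have hU : IsPGroup 2 U' := U.isPGroup'.map _
  have hU'N : U' ≤ N := Subgroup.map_subtype_le _
  letI act : MulAction U' C :=
    { smul := fun s c => ⟨(s : G) * (c : G) * (s : G)⁻¹, conj_mem_centralizer c.2 (hU'N s.2)⟩
      one_smul := fun c => Subtype.ext (by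
        show ((1 : U') : G) * (c : G) * ((1 : U') : G)⁻¹ = (c : G)
        simp)
      mul_smul := fun x y c => Subtype.ext (by
        show ((x * y : U') : G) * (c : G) * ((x * y : U') : G)⁻¹ =
          (x : G) * ((y : G) * (c : G) * (y : G)⁻¹) * (x : G)⁻¹
        simp [mul_assoc]) }
  have hmod := hU.card_modEq_card_fixedPoints C
  set K := C ⊓ Subgroup.centralizer (U' : Set G) with hK
  have hfix : Nat.card (MulAction.fixedPoints U' C) = Nat.card K := by
    refine Nat.card_congr
      { toFun := fun c => ⟨(c.1 : G), c.1.2, Subgroup.mem_centralizer_iff.2 fun s hs => ?_⟩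
        invFun := fun c => ⟨⟨(c : G), c.2.1⟩, fun s => Subtype.ext ?_⟩
        left_inv := fun c => rfl
        right_inv := fun c => rfl }
    · have h := congrArg Subtype.val (c.2 ⟨s, hs⟩)
      exact mul_inv_eq_iff_eq_mul.1 h
    · exact mul_inv_eq_iff_eq_mul.2 (Subgroup.mem_centralizer_iff.1 c.2.2 s s.2)
  rw [hfix] at hmod
  have h2K : 2 ∣ Nat.card K := by
    have h := hmod.symm
    rw [Nat.ModEq] at h
    omega
  obtain ⟨w, hw⟩ := exists_prime_orderOf_dvd_card' 2 (G := K) h2K
  refine ⟨w, by rw [Subgroup.orderOf_coe, hw], ?_⟩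
  set H := Subgroup.centralizer ({(w : G)} : Set G) with hH
  have hPH : (P : Subgroup G) ≤ H := fun x hx =>
    Subgroup.mem_centralizer_singleton_iff.2 (Subgroup.mem_centralizer_iff.1 w.2.1 x hx)
  have hUH : U' ≤ H := fun x hx =>
    Subgroup.mem_centralizer_singleton_iff.2 (Subgroup.mem_centralizer_iff.1 w.2.2 x hx)
  have h8 : Nat.card U' = 8 := by
    rw [hU', Subgroup.card_map_of_injective N.subtype_injective,
      Small.sylow_card (k := 3) (m := 5) (by rw [hN]; norm_num) (by norm_num) U]
    norm_num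
  have hle : (P : Subgroup G) ⊔ U' ≤ N := sup_le P.le_normalizer hU'N
  have h40 : 40 ∣ Nat.card ((P : Subgroup G) ⊔ U' : Subgroup G) := by
    have h5' := Subgroup.card_dvd_of_le (le_sup_left : (P : Subgroup G) ≤ (P : Subgroup G) ⊔ U')
    have h8' := Subgroup.card_dvd_of_le (le_sup_right : U' ≤ (P : Subgroup G) ⊔ U')
    rw [hP] at h5'
    rw [h8] at h8'
    exact Nat.Coprime.mul_dvd_of_dvd_of_dvd (by norm_num : Nat.Coprime 5 8) h5' h8'
  rw [← Subgroup.eq_of_le_of_card_ge hle (hN ▸ Nat.le_of_dvd Nat.card_pos h40)]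
  exact sup_le hPH hUH

end

theorem card_ne_5040 : Nat.card G ≠ 5040 := by
  intro hn
  classical
  haveI : Fact (Nat.Prime 7) := ⟨by norm_num⟩
  haveI : Fact (Nat.Prime 5) := ⟨by norm_num⟩
  haveI : Fact (Nat.Prime 2) := ⟨Nat.prime_two⟩
  have hG := not_comm hn
  obtain ⟨P⟩ : Nonempty (Sylow 5 G) := inferInstance
  have hP : Nat.card (P : Subgroup G) = 5 := by
    rw [Small.sylow_card (k := 1) (m := 1008) (by rw [hn]; norm_num) (by norm_num) P, pow_one]
  set N := Subgroup.normalizer ((P : Subgroup G) : Set G) with hNdef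
  have hidx : N.index = 126 := (Small.card_eq_index P).symm.trans (card_sylow_five hn)
  have hN : Nat.card N = 40 := by
    have := N.card_mul_index
    rw [hidx, hn] at this
    omega
  obtain ⟨w, hw, hNH⟩ := exists_invol hn P
  set H := Subgroup.centralizer ({w} : Set G) with hH
  have hHne : H ≠ ⊤ := by
    intro e
    have : w ∈ Subgroup.center G := Subgroup.mem_center_iff.2 fun g =>
      Subgroup.mem_centralizer_singleton_iff.1 (show g ∈ H by rw [e]; exact Subgroup.mem_top g)
    rcases (inferInstance : (Subgroup.center G).Normal).eq_bot_or_eq_top with e' | e'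
    · rw [e', Subgroup.mem_bot] at this
      rw [this, orderOf_one] at hw; omega
    · exact hG ⟨⟨fun a b => Subgroup.mem_center_iff.1 (e' ▸ Subgroup.mem_top b) a⟩⟩
  have hPH : (P : Subgroup G) ≤ H := P.le_normalizer.trans hNH
  have h5H : 5 ∣ Nat.card H := hP ▸ Subgroup.card_dvd_of_le hPH
  have hrel := Subgroup.relIndex_mul_index hNH
  rw [hidx] at hrel
  have hN5 : Subgroup.normalizer (((P.subtype hPH : Sylow 5 H) : Subgroup H) : Set H) = N.subgroupOf H := by
    rw [Sylow.coe_subtype, ← Subgroup.subgroupOf_normalizer_eq hPH]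
  have hn5 := Small.card_eq_index (P.subtype hPH : Sylow 5 H)
  rw [hN5] at hn5
  change Nat.card (Sylow 5 H) = N.relIndex H at hn5
  have hmodH := (card_sylow_modEq_one 5 H : Nat.card (Sylow 5 H) % 5 = 1 % 5)
  rw [hn5] at hmodH
  have hHi := H.card_mul_index
  rw [hn] at hHi
  have h7 := seven_lt_index hn hHne
  have hd : N.relIndex H ∣ 126 := ⟨_, hrel.symm⟩
  have key : ∀ r < 127, r ∣ 126 → r % 5 = 1 → 7 < 126 / r → r = 1 ∨ r = 6 := by decide +kernel
  have hr := key _ (by have := Nat.le_of_dvd (by norm_num) hd; omega) hd hmodH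
    (by rw [Nat.div_eq_of_eq_mul_right (Nat.pos_of_ne_zero fun e => by rw [e, zero_mul] at hrel; omega) hrel.symm]
        exact h7)
  rcases hr with hr | hr <;> rw [hr] at hrel
  · -- centraliser of order forty: characters
    have hHc : Nat.card H = 40 := by
      rw [show H.index = 126 by omega] at hHi; omega
    obtain ⟨R⟩ : Nonempty (Sylow 7 G) := inferInstance
    obtain ⟨hC7, hN7⟩ := card_centralizer_seven hn R
    have hR : Nat.card (R : Subgroup G) = 7 := by
      rw [Small.sylow_card (k := 1) (m := 720) (by rw [hn]; norm_num) (by norm_num) R, pow_one]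
    obtain ⟨v', hv⟩ := exists_prime_orderOf_dvd_card' 7 (G := (R : Subgroup G)) (by rw [hR])
    have hv' : orderOf (v' : G) = 7 := by rw [Subgroup.orderOf_coe, hv]
    have hv1 : (v' : G) ≠ 1 := fun e => by rw [e, orderOf_one] at hv'; omega
    refine false_of_data hn (R : Subgroup G) hR hv' (by rw [centralizer_eq hR v'.2 hv1, hC7])
      (fun x hx hx1 => exists_normalizer_conj hR hN7 hC7 v'.2 hv1 hx hx1) hw hHc fun a ha hb => ?_
    obtain ⟨k, hk⟩ := isConj_iff.1 ha
    obtain ⟨l, hl⟩ := isConj_iff.1 hb
    have ha2 : orderOf a = 2 := by rw [← hk, Invol.order_conj, hw]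
    have hb2 : orderOf (a⁻¹ * (v' : G)) = 2 := by rw [← hl, Invol.order_conj, hw]
    refine no_invol_normalizes hn R ha2 ?_ ?_
    · obtain ⟨u, hu⟩ := exists_prime_orderOf_dvd_card' 5 (G := H) h5H
      have hmem : k * (u : G) * k⁻¹ ∈ Subgroup.centralizer ({a} : Set G) := by
        rw [Subgroup.mem_centralizer_singleton_iff, ← hk]
        have := Subgroup.mem_centralizer_singleton_iff.1 u.2
        calc k * (u : G) * k⁻¹ * (k * w * k⁻¹) = k * ((u : G) * w) * k⁻¹ := by group
          _ = k * (w * (u : G)) * k⁻¹ := by rw [this]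
          _ = _ := by group
      have := Subgroup.orderOf_dvd_natCard _ hmem
      rwa [Invol.order_conj, Subgroup.orderOf_coe, hu] at this
    · -- `a` inverts `v'`
      have hai : a⁻¹ = a := Invol.inv_self ha2
      have hbb := Invol.mul_self hb2
      rw [hai] at hbb
      have hinv : a * (v' : G) * a⁻¹ = ((v' : G))⁻¹ := by
        rw [hai]
        refine eq_inv_of_mul_eq_one_left ?_
        calc a * (v' : G) * a * (v' : G) = a * (v' : G) * (a * (v' : G)) := by group
          _ = 1 := hbb
      rw [← zpowers_eq hR v'.2 hv1]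
      have hin : ∀ x ∈ Subgroup.zpowers (v' : G), a * x * a⁻¹ ∈ Subgroup.zpowers (v' : G) := by
        intro x hx
        obtain ⟨i, rfl⟩ := Subgroup.mem_zpowers_iff.1 hx
        rw [Invol.conj_zpow hinv i]
        first
          | exact inv_mem (zpow_mem (Subgroup.mem_zpowers (v' : G)) i)
          | exact zpow_mem (Subgroup.mem_zpowers (v' : G)) (-i)
      refine Subgroup.mem_normalizer_iff.2 fun x => ⟨hin x, fun hx => ?_⟩
      have h' := hin _ hx
      rw [hai] at h'
      have haa := Invol.mul_self ha2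
      have he : a * (a * x * a) * a = x := by
        calc a * (a * x * a) * a = (a * a) * x * (a * a) := by group
          _ = x := by rw [haa]; group
      rwa [he] at h'
  · -- centraliser of order 240: the involution is isolated
    have hi : H.index = 21 := by omega
    have hHc : Nat.card H = 240 := by rw [hi] at hHi; omega
    obtain ⟨u', hu⟩ := exists_prime_orderOf_dvd_card' 5 (G := (P : Subgroup G)) (by rw [hP])
    set u : G := (u' : G) with hudef
    have hu' : orderOf u = 5 := by rw [hudef, Subgroup.orderOf_coe, hu]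
    have huH : u ∈ H := hPH u'.2
    have hwH : w ∈ H := Subgroup.mem_centralizer_singleton_iff.2 rfl
    have hfixu : ∀ q : G ⧸ H, u • q = q → q = ((1 : G) : G ⧸ H) := by
      intro q hq
      obtain ⟨g, rfl⟩ := QuotientGroup.mk_surjective q
      have hq' : g⁻¹ * u * g ∈ H := by
        rw [MulAction.Quotient.smul_mk, eq_comm, QuotientGroup.eq, smul_eq_mul] at hq
        rwa [mul_assoc]
      have hu1 : u ≠ 1 := fun e => by rw [e, orderOf_one] at hu'; omega
      have hPu := zpowers_eq hP u'.2 hu1
      have hP' : (g⁻¹ • P : Sylow 5 G) ≤ H := by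
        intro x hx
        rw [Sylow.coe_subgroup_smul, Subgroup.mem_pointwise_smul_iff_inv_smul_mem] at hx
        rw [← hPu, Subgroup.mem_zpowers_iff] at hx
        obtain ⟨i, hi⟩ := hx
        have hxe : x = g⁻¹ * u ^ i * g := by
          rw [hi]
          simp [MulAut.smul_def, MulAut.conj_apply, mul_assoc]
        rw [hxe, show g⁻¹ * u ^ i * g = (g⁻¹ * u * g) ^ i by
          rw [show g⁻¹ * u * g = MulAut.conj g⁻¹ u by simp [MulAut.conj_apply], ← map_zpow]
          simp [MulAut.conj_apply]]
        exact zpow_mem hq' i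
      obtain ⟨h, hh⟩ := MulAction.exists_smul_eq H (P.subtype hPH : Sylow 5 H) ((g⁻¹ • P).subtype hP')
      rw [Sylow.smul_subtype] at hh
      have hh' : (h : G) • P = g⁻¹ • P := Sylow.subtype_injective hh
      have hgh : g * (h : G) ∈ N := by
        have hfix : (g * (h : G)) • P = P := by rw [mul_smul, hh', smul_inv_smul]
        exact Sylow.smul_eq_iff_mem_normalizer.1 hfix
      rw [QuotientGroup.eq, mul_one]
      refine H.inv_mem ?_
      have := H.mul_mem (hNH hgh) (H.inv_mem h.2)
      rwa [mul_assoc, mul_inv_cancel, mul_one] at this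
    have hfu : CommFix.fix H u ≤ 1 := by
      have : Nat.card Unit = 1 := Nat.card_unique
      rw [CommFix.fix, ← this]
      exact Nat.card_le_card_of_injective (fun _ => ()) fun a b _ =>
        Subtype.ext ((hfixu a.1 a.2).trans (hfixu b.1 b.2).symm)
    have hcomm : Commute w u := (Subgroup.mem_centralizer_singleton_iff.1 huH).symm
    have h1 := CommFix.fix_common (by norm_num : Nat.Prime 5) H hu' hcomm
    have h2 := common_le H w u
    have h3 := one_le_common hwH huH
    have h4 := CommFix.four_dvd hG hHne hw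
    have hlt := CommFix.fix_lt hHne (Invol.ne_one hw)
    rw [hi] at h4 hlt
    have hfw : CommFix.fix H w = 1 := by omega
    have hiso : Cfsg.IsIsolated w := by
      intro g hg
      have hmem : g⁻¹ * w * g ∈ H := by
        rw [hH, Subgroup.mem_centralizer_singleton_iff]
        calc g⁻¹ * w * g * w = g⁻¹ * (w * (g * w * g⁻¹)) * g := by group
          _ = g⁻¹ * (g * w * g⁻¹ * w) * g := by rw [hg.eq]
          _ = w * (g⁻¹ * w * g) := by group
      have hq : (g : G ⧸ H) ∈ MulAction.fixedBy (G ⧸ H) w := by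
        rw [MulAction.mem_fixedBy, MulAction.Quotient.smul_mk, eq_comm, QuotientGroup.eq, smul_eq_mul]
        rw [← mul_assoc]
        exact hmem
      have hone : ((1 : G) : G ⧸ H) ∈ MulAction.fixedBy (G ⧸ H) w := CommFix.one_mem_fix hwH
      haveI : Subsingleton (MulAction.fixedBy (G ⧸ H) w) := (Nat.card_eq_one_iff_unique.1 hfw).1
      have e : (g : G ⧸ H) = ((1 : G) : G ⧸ H) :=
        congrArg Subtype.val (Subsingleton.elim (⟨_, hq⟩ : MulAction.fixedBy (G ⧸ H) w) ⟨_, hone⟩)
      rw [QuotientGroup.eq, mul_one] at e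
      have hgH := H.inv_mem e
      rw [inv_inv, hH, Subgroup.mem_centralizer_singleton_iff] at hgH
      rw [hgH, mul_inv_cancel_right]
    have hz := BrauerSuzuki.zStar G w hw hiso
    haveI := (PBasic.pPrimeCore_characteristic 2 G)
    rcases (inferInstance : (Cfsg.pPrimeCore 2 G).Normal).eq_bot_or_eq_top with e | e
    · have hwc : w ∈ Subgroup.center G := Subgroup.mem_center_iff.2 fun g => by
        have := hz g
        rw [e, Subgroup.mem_bot, mul_inv_eq_one, mul_inv_eq_iff_eq_mul] at this
        exact this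
      rcases (inferInstance : (Subgroup.center G).Normal).eq_bot_or_eq_top with e' | e'
      · rw [e', Subgroup.mem_bot] at hwc
        exact Invol.ne_one hw hwc
      · exact hG ⟨⟨fun a b => Subgroup.mem_center_iff.1 (e' ▸ Subgroup.mem_top b) a⟩⟩
    · have h := PBasic.pPrimeCore_coprime 2 G
      rw [e, Subgroup.card_top, hn] at h
      norm_num at h

end Cfsg.Agent.Order5040
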