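import Cfsg.Agent.Lib.Small.Order5040.DetInvolution
import Cfsg.Agent.Lib.Small.Order720

/-!
No simple group of order `5040` has a self-centralizing element of order seven and an involution with
centralizer of order `40` inverting none of its conjugates.
-/

set_option autoImplicit false
set_option linter.style.haveILetI false
set_option maxRecDepth 20000

namespace Cfsg.Agent.Order5040

open Cfsg Cfsg.Agent.Char Cfsg.Agent.Exc
open scoped ComplexConjugate

/-- `(u², d u, u c, c², u c² 720 / d, d²)` for degree `d`, value `u` at order 7, value `c` at order 2. -/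
abbrev Vec : Type := ℤ × ℤ × ℤ × ℤ × ℤ × ℤ

/-- The contribution of one character. -/
def contrib (it : ℤ × ℤ × ℤ) : Vec :=
  (it.2.1 * it.2.1, it.1 * it.2.1, it.2.1 * it.2.2, it.2.2 * it.2.2,
    it.2.1 * (it.2.2 * it.2.2) * (720 / it.1), it.1 * it.1)

/-- Possible degrees. -/
def degs : List ℤ := [2, 3, 4, 5, 6, 8, 9, 10, 12, 15, 16, 18, 20, 24, 30, 36, 40, 45, 48, 60]

/-- The admissible triples. -/
def items : List (ℤ × ℤ × ℤ) :=
  [ (30, 2, (-6)), (30, 2, 6), (9, 2, 5),
    (40, (-2), (-4)), (40, (-2), 4), (16, 2, (-4)),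
    (16, 2, 4), (12, (-2), (-4)), (12, (-2), 4),
    (9, 2, (-3)), (30, 2, (-2)), (30, 2, 2),
    (2, 2, (-2)), (9, 2, 1), (40, (-2), 0),
    (16, 2, 0), (12, (-2), 0), (6, (-1), (-6)),
    (15, 1, (-5)), (48, (-1), (-4)), (48, (-1), 4),
    (36, 1, (-4)), (36, 1, 4), (20, (-1), (-4)),
    (20, (-1), 4), (8, 1, (-4)), (8, 1, 4),
    (15, 1, 3), (6, (-1), (-2)), (6, (-1), 2),
    (15, 1, (-1)), (48, (-1), 0), (36, 1, 0),
    (20, (-1), 0), (8, 1, 0) ]

/-- Their contributions. -/
def vecs : List Vec :=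
  [ (4, 60, (-12), 36, 1728, 900), (4, 60, 12, 36, 1728, 900),
    (4, 18, 10, 25, 4000, 81), (4, (-80), 8, 16, (-576), 1600),
    (4, (-80), (-8), 16, (-576), 1600), (4, 32, (-8), 16, 1440, 256),
    (4, 32, 8, 16, 1440, 256), (4, (-24), 8, 16, (-1920), 144),
    (4, (-24), (-8), 16, (-1920), 144), (4, 18, (-6), 9, 1440, 81),
    (4, 60, (-4), 4, 192, 900), (4, 60, 4, 4, 192, 900),
    (4, 4, (-4), 4, 2880, 4), (4, 18, 2, 1, 160, 81),
    (4, (-80), 0, 0, 0, 1600), (4, 32, 0, 0, 0, 256),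
    (4, (-24), 0, 0, 0, 144), (1, (-6), 6, 36, (-4320), 36),
    (1, 15, (-5), 25, 1200, 225), (1, (-48), 4, 16, (-240), 2304),
    (1, (-48), (-4), 16, (-240), 2304), (1, 36, (-4), 16, 320, 1296),
    (1, 36, 4, 16, 320, 1296), (1, (-20), 4, 16, (-576), 400),
    (1, (-20), (-4), 16, (-576), 400), (1, 8, (-4), 16, 1440, 64),
    (1, 8, 4, 16, 1440, 64), (1, 15, 3, 9, 432, 225),
    (1, (-6), 2, 4, (-480), 36), (1, (-6), (-2), 4, (-480), 36),
    (1, 15, (-1), 1, 48, 225), (1, (-48), 0, 0, 0, 2304),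
    (1, 36, 0, 0, 0, 1296), (1, (-20), 0, 0, 0, 400),
    (1, 8, 0, 0, 0, 64) ]

theorem vecs_eq : items.map contrib = vecs := by decide +kernel

theorem mem_items : ∀ d ∈ degs, ∀ u ∈ [(1 : ℤ), -1, 2, -2],
    ∀ c ∈ [(0 : ℤ), 1, -1, 2, -2, 3, -3, 4, -4, 5, -5, 6, -6],
      (d - u) % 7 = 0 ∧ 0 ≤ d + 6 * u ∧ c.natAbs ≤ d.natAbs ∧ c ≠ d ∧ (d - c) % 4 = 0 →
        (d, u, c) ∈ items := by
  decide +kernel

/-- The bounds on the partial sums. -/
def okBound : Vec → Bool
  | (a, _, _, b, _, e) => decide (a ≤ 6) && decide (b ≤ 39) && decide (e ≤ 5039)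

/-- A consistent total. -/
def final : Vec → Bool
  | (a, p, q, _, r, _) => decide (a = 6) && decide (p = -1) && decide (q = -1) && decide (r = -720)

/-- The componentwise sum. -/
def add1 : Vec → Vec → Vec
  | (a, b, c, d, e, f), (a', b', c', d', e', f') =>
    (Int.add a a', Int.add b b', Int.add c c', Int.add d d', Int.add e e', Int.add f f')

/-- Add `v` up to `n` times, within the bounds. -/
def loop (f : Vec → Bool) (v : Vec) : ℕ → Vec → Bool
  | 0, s => f s
  | n + 1, s => f s || (okBound (add1 s v) && loop f v n (add1 s v))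

/-- Search over multiplicities. -/
def search : List Vec → Vec → Bool
  | [], s => final s
  | v :: rest, s => loop (search rest) v 6 s

theorem search_none : search vecs (0, 0, 0, 0, 0, 0) = false := by decide +kernel

theorem add1_eq (s v : Vec) : add1 s v = s + v := rfl

theorem items_nodup : items.Nodup := by decide +kernel

theorem contrib_nonneg (it : ℤ × ℤ × ℤ) :
    0 ≤ (contrib it).1 ∧ 0 ≤ (contrib it).2.2.2.1 ∧ 0 ≤ (contrib it).2.2.2.2.2 :=
  ⟨mul_self_nonneg _, mul_self_nonneg _, mul_self_nonneg _⟩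

theorem okBound_iff (s : Vec) : okBound s = true ↔ s.1 ≤ 6 ∧ s.2.2.2.1 ≤ 39 ∧ s.2.2.2.2.2 ≤ 5039 := by
  obtain ⟨a, p, q, b, r, e⟩ := s
  simp [okBound, and_assoc]

theorem final_iff (s : Vec) :
    final s = true ↔ s.1 = 6 ∧ s.2.1 = -1 ∧ s.2.2.1 = -1 ∧ s.2.2.2.2.1 = -720 := by
  obtain ⟨a, p, q, b, r, e⟩ := s
  simp [final, and_assoc]

theorem loop_spec (f : Vec → Bool) (v : Vec) : ∀ (n k : ℕ) (s : Vec), k ≤ n →
    f (s + k • v) = true → (∀ j, j ≤ k → okBound (s + j • v) = true) → loop f v n s = true := by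
  intro n
  induction n with
  | zero =>
    intro k s hk hf _
    obtain rfl : k = 0 := by omega
    simpa [loop] using hf
  | succ n ih =>
    intro k s hk hf hb
    simp only [loop, Bool.or_eq_true, Bool.and_eq_true, add1_eq]
    rcases k with _ | k
    · exact Or.inl (by simpa using hf)
    refine Or.inr ⟨by simpa using hb 1 (by omega), ih k _ (by omega) ?_ fun j hj => ?_⟩
    · rwa [add_assoc, ← succ_nsmul']
    · rw [add_assoc, ← succ_nsmul']
      exact hb (j + 1) (by omega)

theorem search_spec : ∀ (L : List (ℤ × ℤ × ℤ)) (k : ℤ × ℤ × ℤ → ℕ) (s : Vec),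
    (∀ it ∈ L, k it ≤ 6) →
    final (s + (L.map fun it => k it • contrib it).sum) = true →
    okBound (s + (L.map fun it => k it • contrib it).sum) = true → search (L.map contrib) s = true := by
  intro L
  induction L with
  | nil => intro k s _ h _; simpa [search] using h
  | cons it rest ih =>
    intro k s hk hf hb
    simp only [List.map_cons, List.sum_cons, ← add_assoc] at hf hb
    simp only [List.map_cons, search]
    refine loop_spec _ _ 6 (k it) s (hk it (List.mem_cons_self ..))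
      (ih k _ (fun x hx => hk x (List.mem_cons_of_mem _ hx)) hf hb) fun j hj => ?_
    set T := (rest.map fun it => k it • contrib it).sum with hT
    have hT0 : 0 ≤ T.1 ∧ 0 ≤ T.2.2.2.1 ∧ 0 ≤ T.2.2.2.2.2 := by
      rw [hT]
      clear ih hf hb hT T hk hj
      induction rest with
      | nil => simp
      | cons a r ihr =>
        obtain ⟨h1, h2, h3⟩ := contrib_nonneg a
        obtain ⟨g1, g2, g3⟩ := ihr
        simp only [List.map_cons, List.sum_cons, Prod.fst_add, Prod.snd_add, Prod.smul_fst,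
          Prod.smul_snd, nsmul_eq_mul]
        exact ⟨add_nonneg (mul_nonneg (Nat.cast_nonneg _) h1) g1,
          add_nonneg (mul_nonneg (Nat.cast_nonneg _) h2) g2,
          add_nonneg (mul_nonneg (Nat.cast_nonneg _) h3) g3⟩
    obtain ⟨n1, n2, n3⟩ := contrib_nonneg it
    have hjk : (j : ℤ) ≤ (k it : ℤ) := by exact_mod_cast hj
    rw [okBound_iff] at hb ⊢
    simp only [Prod.fst_add, Prod.snd_add, Prod.smul_fst, Prod.smul_snd] at hb ⊢
    simp only [nsmul_eq_mul] at hb ⊢
    have m1 := mul_le_mul_of_nonneg_right hjk n1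
    have m2 := mul_le_mul_of_nonneg_right hjk n2
    have m3 := mul_le_mul_of_nonneg_right hjk n3
    refine ⟨?_, ?_, ?_⟩ <;> linarith [hb.1, hb.2.1, hb.2.2, hT0.1, hT0.2.1, hT0.2.2]

theorem key_degree : ∀ e ∈ (List.range 71).map (fun i : ℕ => (i : ℤ)), 2 ≤ e → (5040 : ℤ) % e = 0 →
    ¬ e % 7 = 0 → e ∈ degs := by decide +kernel

universe u

variable {G : Type u} [Group G] [Finite G] [IsSimpleGroup G]

omit [IsSimpleGroup G] in
/-- The value at an element of order seven all of whose nontrivial powers are conjugate. -/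
theorem value_seven [Fintype G] (P : Subgroup G) (hP : Nat.card P = 7) {y : G}
    (hconj : ∀ w ∈ P, w ≠ 1 → IsConj y w) (χ : IrrCharacter G) :
    ∃ m m₀ : ℕ, (χ : G → ℂ) y = ((Cfsg.charDegree (χ : G → ℂ) : ℤ) - 7 * m : ℤ) ∧
      (7 * m₀ : ℤ) = Cfsg.charDegree (χ : G → ℂ) + 6 * ((Cfsg.charDegree (χ : G → ℂ) : ℤ) - 7 * m) := by
  classical
  haveI : Fact (Nat.Prime 7) := ⟨by norm_num⟩
  letI := Fintype.ofFinite P
  set r : P → ℂ := fun w => (χ : G → ℂ) w with hr
  have hrc : Cfsg.IsCharacter ↥P r := IsCharacter.restrict (IsIrrCharacter.isCharacter χ.2) P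
  obtain ⟨μ, hμ⟩ : ∃ μ : IrrCharacter ↥P, μ ≠ one ↥P :=
    Fintype.exists_ne_of_one_lt_card (by rw [card_dual hP]; norm_num) _
  obtain ⟨m, hm⟩ := IsCharacter.exists_classInner_nat hrc (IsIrrCharacter.isCharacter μ.2)
  obtain ⟨m₀, hm₀⟩ := IsCharacter.exists_classInner_nat hrc
    (IsIrrCharacter.isCharacter (one ↥P).2)
  have h0 := classInner_irr_of_ne μ.2 isIrrCharacter_one fun e => hμ (Subtype.ext e)
  simp only [Cfsg.classInner, map_one, mul_one] at h0 hm
  simp only [Cfsg.classInner, one_apply, map_one, mul_one] at hm₀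
  have hc0 : ∑ w : P, conj ((μ : P → ℂ) w) = 0 := by
    rw [← map_sum, (mul_eq_zero.1 h0).resolve_left (inv_ne_zero (by rw [hP]; norm_num)), map_zero]
  have hval : ∀ w : P, r w = (χ : G → ℂ) y +
      if w = 1 then (Cfsg.charDegree (χ : G → ℂ) : ℂ) - (χ : G → ℂ) y else 0 := by
    intro w
    split_ifs with h
    · subst h; simp [hr, CharX.irr_deg]
    · rw [add_zero, hr]
      obtain ⟨g, hg⟩ := isConj_iff.1 (hconj w w.2 fun e => h (Subtype.ext e))
      show (χ : G → ℂ) w = _
      rw [← hg]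
      exact IsCharacter.isClassFunction (IsIrrCharacter.isCharacter χ.2) y g
  simp only [hval, add_mul, ite_mul, zero_mul, Finset.sum_add_distrib, ← Finset.mul_sum, hc0,
    mul_zero, zero_add, Finset.sum_ite_eq', Finset.mem_univ, if_true,
    degree_one_of_comm (comm_K hP) (Subtype.prop μ), map_one, mul_one, hP] at hm
  simp only [hval, Finset.sum_add_distrib, Finset.sum_const, Finset.card_univ, nsmul_eq_mul,
    Finset.sum_ite_eq', Finset.mem_univ, if_true, ← Nat.card_eq_fintype_card, hP] at hm₀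
  have hu : (χ : G → ℂ) y = ((Cfsg.charDegree (χ : G → ℂ) : ℤ) - 7 * m : ℤ) := by
    push_cast
    linear_combination -(7 : ℂ) * hm
  refine ⟨m, m₀, hu, ?_⟩
  rw [hu] at hm₀
  push_cast at hm₀
  have key : ((7 * m₀ : ℤ) : ℂ) = ((Cfsg.charDegree (χ : G → ℂ) +
      6 * ((Cfsg.charDegree (χ : G → ℂ) : ℤ) - 7 * m) : ℤ) : ℂ) := by
    push_cast
    linear_combination -(7 : ℂ) * hm₀
  exact_mod_cast key

theorem false_of_data (hn : Nat.card G = 5040) (P : Subgroup G) (hP : Nat.card P = 7) {y w : G}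
    (hy : orderOf y = 7) (hCy : Nat.card (Subgroup.centralizer ({y} : Set G)) = 7)
    (hconj : ∀ v ∈ P, v ≠ 1 → IsConj y v) (hw : orderOf w = 2)
    (hCw : Nat.card (Subgroup.centralizer ({w} : Set G)) = 40)
    (hnone : ∀ a : G, IsConj w a → IsConj w (a⁻¹ * y) → False) : False := by
  classical
  letI := Fintype.ofFinite G
  have hnp : ¬ (Nat.card G).Prime := by rw [hn]; norm_num
  have hG := Small.not_comm_of_card hnp
  choose m m₀ hm hm₀ using fun χ => value_seven P hP hconj χ
  choose c hc hcb hcp using fun χ : IrrCharacter G => value_invol hG χ hw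
  set d : IrrCharacter G → ℤ := fun χ => (Cfsg.charDegree (χ : G → ℂ) : ℤ) with hd
  set u : IrrCharacter G → ℤ := fun χ => d χ - 7 * m χ with hu
  have hu' : ∀ χ : IrrCharacter G, (χ : G → ℂ) y = (u χ : ℂ) := hm
  have hd' : ∀ χ : IrrCharacter G, (χ : G → ℂ) 1 = (d χ : ℂ) := fun χ => by rw [CharX.irr_deg, hd]; norm_cast
  have hyt : ¬ IsConj w y := fun h => by
    obtain ⟨g, hg⟩ := isConj_iff.1 h
    rw [← hg, ← MulAut.conj_apply, (MulAut.conj g).orderOf_eq, hw] at hy
    omega
  have hy1 : ¬ IsConj (1 : G) y := fun h => by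
    rw [isConj_one_right.1 h, orderOf_one] at hy
    omega
  have hcentre : Nat.card (Subgroup.centralizer ({(1 : G)} : Set G)) = 5040 := by
    rw [show Subgroup.centralizer ({1} : Set G) = ⊤ by
      ext x; simp [Subgroup.mem_centralizer_singleton_iff], Subgroup.card_top, hn]
  -- the column relations
  have e1 : ∑ χ, u χ * u χ = 7 := by
    have h := column_orth_of_isConj (IsConj.refl y)
    simp only [hu', map_intCast, hCy] at h
    exact_mod_cast h
  have e2 : ∑ χ, d χ * u χ = 0 := by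
    have h := column_orth_of_not_isConj hy1
    simp only [hu', hd', map_intCast] at h
    exact_mod_cast h
  have e3 : ∑ χ, u χ * c χ = 0 := by
    have h := column_orth_of_not_isConj hyt
    simp only [hu', hc, map_intCast] at h
    rw [← @Int.cast_inj ℂ]; push_cast
    rw [← h]
    exact Finset.sum_congr rfl fun χ _ => mul_comm _ _
  have e4 : ∑ χ, c χ * c χ = 40 := by
    have h := column_orth_of_isConj (IsConj.refl w)
    simp only [hc, map_intCast, hCw] at h
    exact_mod_cast h
  have e6 : ∑ χ, d χ * d χ = 5040 := by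
    have h := column_orth_of_isConj (IsConj.refl (1 : G))
    simp only [hd', map_intCast, hcentre] at h
    exact_mod_cast h
  have e5 := ClassCount.pair_count w w y
  haveI : IsEmpty {a : G // IsConj w a ∧ IsConj w (a⁻¹ * y)} := ⟨fun a => hnone a.1 a.2.1 a.2.2⟩
  simp only [hu', hc, hd', map_intCast, hCw, hn, Nat.card_of_isEmpty] at e5
  -- the principal character
  have hone : d (one G) = 1 ∧ u (one G) = 1 ∧ c (one G) = 1 := by
    refine ⟨?_, ?_, ?_⟩
    · have h := hd' (one G); rw [one_apply] at h; exact_mod_cast h.symm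
    · have h := hu' (one G); rw [one_apply] at h; exact_mod_cast h.symm
    · have h := hc (one G); rw [one_apply] at h; exact_mod_cast h.symm
  set S : Finset (IrrCharacter G) := (Finset.univ.erase (one G)).filter fun χ => u χ ≠ 0 with hS
  have hle2 : ∀ χ, χ ≠ one G → -2 ≤ u χ ∧ u χ ≤ 2 := by
    intro χ hχ
    have h1 : u χ * u χ + u (one G) * u (one G) ≤ 7 := by
      rw [← e1, ← Finset.sum_pair (f := fun χ => u χ * u χ) hχ]
      exact Finset.sum_le_sum_of_subset_of_nonneg (Finset.subset_univ _) fun i _ _ => mul_self_nonneg _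
    rw [hone.2.1] at h1
    constructor <;> nlinarith
  have hclt : ∀ χ, χ ≠ one G → -6 ≤ c χ ∧ c χ ≤ 6 := by
    intro χ hχ
    have h1 : c χ * c χ + c (one G) * c (one G) ≤ 40 := by
      rw [← e4, ← Finset.sum_pair (f := fun χ => c χ * c χ) hχ]
      exact Finset.sum_le_sum_of_subset_of_nonneg (Finset.subset_univ _) fun i _ _ => mul_self_nonneg _
    rw [hone.2.2] at h1
    constructor <;> nlinarith
  have hdeg : ∀ χ, χ ≠ one G → 2 ≤ d χ ∧ d χ ≤ 70 ∧ d χ ∣ 5040 := by
    intro χ hχ
    have h2 := SelfCentral.irr_degree_ge_two hG χ hχ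
    have hdv := CharX.irr_deg_dvd_card χ
    rw [hn] at hdv
    refine ⟨by simp only [hd]; omega, ?_, by simp only [hd]; exact_mod_cast hdv⟩
    have h1 : d χ * d χ + d (one G) * d (one G) ≤ 5040 := by
      rw [← e6, ← Finset.sum_pair (f := fun χ => d χ * d χ) hχ]
      exact Finset.sum_le_sum_of_subset_of_nonneg (Finset.subset_univ _) fun i _ _ => mul_self_nonneg _
    rw [hone.1] at h1
    nlinarith
  set data : IrrCharacter G → ℤ × ℤ × ℤ := fun χ => (d χ, u χ, c χ) with hdata
  have hmem : ∀ χ ∈ S, data χ ∈ items := by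
    intro χ hχ
    rw [hS, Finset.mem_filter, Finset.mem_erase] at hχ
    obtain ⟨⟨hχ1, -⟩, hu0⟩ := hχ
    obtain ⟨hu1, hu2⟩ := hle2 χ hχ1
    obtain ⟨hd1, hd2, hd3⟩ := hdeg χ hχ1
    obtain ⟨hc1, hc2⟩ := hclt χ hχ1
    have hmod : (d χ - u χ) % 7 = 0 := by simp only [hu]; omega
    have hpos : 0 ≤ d χ + 6 * u χ := by
      have h1 := hm₀ χ
      simp only [hu, hd]
      omega
    have hpar : (d χ - c χ) % 4 = 0 := by
      have := hcp χ; simp only [hd]; omega
    have hlt : (c χ).natAbs ≤ (d χ).natAbs := by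
      have h1 := hcb χ; simp only [hd]; omega
    have hne' : c χ ≠ d χ := fun e =>
      SelfCentral.value_ne_degree χ hχ1 (Invol.ne_one hw) (by rw [hc, hd', e])
    have hd7 : ¬ (7 : ℤ) ∣ d χ := by simp only [hu] at hu0 hu1 hu2; omega
    have hdl : d χ ∈ degs := by
      refine key_degree _ (List.mem_map.2 ⟨(d χ).toNat, List.mem_range.2 (by omega), by omega⟩) hd1 ?_ ?_
      · exact Int.emod_eq_zero_of_dvd hd3
      · exact fun e => hd7 (Int.dvd_of_emod_eq_zero e)
    refine mem_items _ hdl _ ?_ _ ?_ ⟨hmod, hpos, hlt, hne', hpar⟩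
    · interval_cases h : u χ <;> simp_all
    · interval_cases h : c χ <;> simp
  have hdiv : ∀ χ, χ ∈ S → (d χ : ℤ) ∣ 720 := by
    intro χ hχ
    have h := hmem χ hχ
    have key : ∀ it ∈ items, it.1 ∣ (720 : ℤ) ∧ it.1 ≠ 0 := by decide +kernel
    exact (key _ h).1
  have hzero : ∀ χ, χ ∈ Finset.univ.erase (one G) → χ ∉ S → u χ = 0 := by
    intro χ h1 h2
    by_contra h
    exact h2 (Finset.mem_filter.2 ⟨h1, h⟩)
  have split : ∀ (F : IrrCharacter G → ℤ), (∀ χ, u χ = 0 → F χ = 0) →
      ∑ χ, F χ = F (one G) + ∑ χ ∈ S, F χ := by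
    intro F hF
    rw [← Finset.add_sum_erase _ _ (Finset.mem_univ (one G))]
    congr 1
    exact (Finset.sum_subset (Finset.filter_subset _ _) fun χ h1 h2 => hF χ (hzero χ h1 h2)).symm
  set tot : Vec := ∑ χ ∈ S, contrib (data χ) with htot
  have t1 : tot.1 = 6 := by
    rw [htot, Prod.fst_sum]
    have h := split (fun χ => u χ * u χ) fun χ h => by rw [h, mul_zero]
    rw [e1, hone.2.1] at h
    simp only [contrib, hdata]
    linarith
  have t2 : tot.2.1 = -1 := by
    simp only [htot, Prod.snd_sum, Prod.fst_sum]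
    have h := split (fun χ => d χ * u χ) fun χ h => by rw [h, mul_zero]
    rw [e2, hone.1, hone.2.1] at h
    simp only [contrib, hdata]
    linarith
  have t3 : tot.2.2.1 = -1 := by
    simp only [htot, Prod.snd_sum, Prod.fst_sum]
    have h := split (fun χ => u χ * c χ) fun χ h => by rw [h, zero_mul]
    rw [e3, hone.2.1, hone.2.2] at h
    simp only [contrib, hdata]
    linarith
  have t4 : tot.2.2.2.1 ≤ 39 := by
    simp only [htot, Prod.snd_sum, Prod.fst_sum]
    have h : ∑ χ ∈ S, c χ * c χ ≤ ∑ χ ∈ Finset.univ.erase (one G), c χ * c χ :=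
      Finset.sum_le_sum_of_subset_of_nonneg (Finset.filter_subset _ _) fun i _ _ => mul_self_nonneg _
    rw [← Finset.add_sum_erase _ _ (Finset.mem_univ (one G)), hone.2.2] at e4
    simp only [contrib, hdata]
    linarith
  have t6 : tot.2.2.2.2.2 ≤ 5039 := by
    simp only [htot, Prod.snd_sum]
    have h : ∑ χ ∈ S, d χ * d χ ≤ ∑ χ ∈ Finset.univ.erase (one G), d χ * d χ :=
      Finset.sum_le_sum_of_subset_of_nonneg (Finset.filter_subset _ _) fun i _ _ => mul_self_nonneg _
    rw [← Finset.add_sum_erase _ _ (Finset.mem_univ (one G)), hone.1] at e6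
    simp only [contrib, hdata]
    linarith
  -- the class multiplication formula
  have t5 : tot.2.2.2.2.1 + 720 = 0 := by
    have key : ∑ χ, (c χ : ℂ) * (c χ : ℂ) * (u χ : ℂ) / (d χ : ℂ) =
        ((1 + (∑ χ ∈ S, u χ * (c χ * c χ) * (720 / d χ) : ℤ) / 720 : ℂ)) := by
      rw [← Finset.add_sum_erase _ _ (Finset.mem_univ (one G)), hone.1, hone.2.1, hone.2.2,
        ← Finset.sum_subset (Finset.filter_subset (fun χ => u χ ≠ 0) (Finset.univ.erase (one G)))
          (fun χ h1 h2 => by rw [hzero χ h1 h2]; simp)]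
      rw [Int.cast_sum, Finset.sum_div]
      simp only [Int.cast_one, mul_one, div_one]
      congr 1
      refine Finset.sum_congr rfl fun χ hχ => ?_
      obtain ⟨k, hk⟩ := hdiv χ hχ
      have hd0 : d χ ≠ 0 := by
        intro e; rw [e, zero_mul] at hk; norm_num at hk
      rw [hk, Int.mul_ediv_cancel_left _ hd0]
      have hk720 : ((720 : ℤ) : ℂ) = (d χ : ℂ) * (k : ℂ) := by rw [hk]; push_cast; rfl
      push_cast at hk720 ⊢
      have hdC : (d χ : ℂ) ≠ 0 := by exact_mod_cast hd0
      rw [div_eq_div_iff hdC (by norm_num), hk720]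
      ring
    have e5' : (((∑ χ ∈ S, u χ * (c χ * c χ) * (720 / d χ)) + 720 : ℤ) : ℂ) = 0 := by
      have hh := e5
      rw [key] at hh
      push_cast at hh ⊢
      linear_combination (-1 / 7 : ℂ) * hh
    have e5'' : (∑ χ ∈ S, u χ * (c χ * c χ) * (720 / d χ)) + 720 = 0 := by exact_mod_cast e5'
    have ht5 : tot.2.2.2.2.1 = ∑ χ ∈ S, u χ * (c χ * c χ) * (720 / d χ) := by
      simp only [htot, Prod.snd_sum, Prod.fst_sum, contrib, hdata]
    rw [ht5]
    exact e5''
  -- multiplicities
  set k : ℤ × ℤ × ℤ → ℕ := fun it => (S.filter fun χ => data χ = it).card with hk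
  have hsum : (items.map fun it => k it • contrib it).sum = tot := by
    rw [← List.sum_toFinset _ items_nodup, htot,
      ← Finset.sum_fiberwise_of_maps_to (g := data) (t := items.toFinset) fun χ hχ =>
        List.mem_toFinset.2 (hmem χ hχ)]
    refine Finset.sum_congr rfl fun it _ => ?_
    rw [hk, Finset.sum_congr rfl (g := fun _ => contrib it) (fun χ hχ => by
      rw [(Finset.mem_filter.1 hχ).2]), Finset.sum_const]
  have hk6 : ∀ it ∈ items, k it ≤ 6 := by
    intro it hit
    have key : ∀ it ∈ items, 1 ≤ it.2.1 * it.2.1 := by decide +kernel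
    have h1 : ∑ χ ∈ S.filter (fun χ => data χ = it), (1 : ℤ) ≤ tot.1 := by
      rw [htot, Prod.fst_sum]
      refine le_trans (Finset.sum_le_sum fun χ hχ => ?_)
        (Finset.sum_le_sum_of_subset_of_nonneg (Finset.filter_subset _ _) fun χ _ _ =>
          (contrib_nonneg _).1)
      rw [(Finset.mem_filter.1 hχ).2]
      exact key it hit
    rw [Finset.sum_const, nsmul_eq_mul, mul_one, t1] at h1
    simp only [hk]
    omega
  have := search_spec items k 0 hk6 (by
      rw [zero_add, hsum, final_iff]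
      exact ⟨t1, t2, t3, by linarith⟩)
    (by
      rw [zero_add, hsum, okBound_iff]
      exact ⟨t1.le, t4, t6⟩)
  rw [vecs_eq, show (0 : Vec) = (0, 0, 0, 0, 0, 0) from rfl] at this
  rw [search_none] at this
  exact Bool.false_ne_true this

end Cfsg.Agent.Order5040
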